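import Cfsg.Agent.H928.Ad.Abs
import Cfsg.Agent.H92.GG.Anti

/-!
# The adjoint group (helper928, S4884)

`D` a group of scalar automorphisms of `Y` (`D ≤ Dg cs h x`).

* `Gad D` : the subgroup of `MulAut Y` generated by the inner automorphisms and `D`; `emb D : Y →* Gad D`;
* `Adj cs h p T n X x` : a root group datum with commutative torus and field coordinates, such that `T` acts on the simple
  root groups by ALL tuples of scalars (`full`), with trivial centre, generated by `T` and the `X z`;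
* `Data` : the hypotheses on `Y`, `D`; `Data.adj` : `Gad D` satisfies `Adj`;
* `Data.anti` : the anti-automorphism `g ↦ ω g⁻¹ ω⁻¹`.
-/

set_option autoImplicit false
set_option linter.unusedSectionVars false

namespace Cfsg.Agent.H928.Ad

open CoxeterSystem Cfsg.Agent.ChevalleyStructure.CoxeterGeom Cfsg.Agent.Tits.Roots Cfsg.Agent.Tits.Core
  Cfsg.Agent.Tits.RootComb Cfsg.Agent.Nodes.Comb Cfsg.Agent.Nodes.Reps Cfsg.Agent.Nodes.BNOf Cfsg.Agent.Nodes.RGDLib
  Cfsg.Agent.Nodes.Bruhat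
open scoped commutatorElement

universe v

variable {I W : Type*} [Fintype I] [DecidableEq I] [Group W] {Y : Type*} [Group Y] {M : CoxeterMatrix I}
  {cs : CoxeterSystem M W} {A : I → I → ℤ} {h : IsCartan M A} {p : ℕ} {T : Subgroup Y} {n : I → Y}
  {X : (I → ℤ) → Subgroup Y} {K : (I → ℤ) → Type v} [∀ z, Field (K z)] {x : ∀ z, K z → Y}

/-- **The frame of an adjoint group.** -/
structure Adj (cs : CoxeterSystem M W) (h : IsCartan M A) (p : ℕ) (T : Subgroup Y) (n : I → Y)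
    (X : (I → ℤ) → Subgroup Y) (x : ∀ z, K z → Y) : Prop where
  rgd : RGD cs h p T n X
  sys : Sys cs h T n X x
  comm : ∀ s ∈ T, ∀ t ∈ T, Commute s t
  full : ∀ c : ∀ i, K (sr i), (∀ i, c i ≠ 0) → ∃ t ∈ T, ∀ i a, t * x (sr i) a * t⁻¹ = x (sr i) (c i * a)
  gen : GG cs h T X = ⊤
  cen : Subgroup.center Y = ⊥

/-- The group generated by the inner automorphisms and `D`. -/
def Gad (D : Subgroup (MulAut Y)) : Subgroup (MulAut Y) := (MulAut.conj : Y →* MulAut Y).range ⊔ D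

theorem conj_mem_Gad (D : Subgroup (MulAut Y)) (y : Y) : MulAut.conj y ∈ Gad D := (le_sup_left : _ ≤ Gad D) ⟨y, rfl⟩

theorem D_le_Gad (D : Subgroup (MulAut Y)) : D ≤ Gad D := le_sup_right

/-- The inner automorphisms. -/
def emb (D : Subgroup (MulAut Y)) : Y →* ↥(Gad D) := (MulAut.conj : Y →* MulAut Y).codRestrict _ (conj_mem_Gad D)

@[simp] theorem coe_emb (D : Subgroup (MulAut Y)) (y : Y) : (emb D y : MulAut Y) = MulAut.conj y := rfl

theorem mul_conj_inv (β : MulAut Y) (y : Y) : β * MulAut.conj y * β⁻¹ = MulAut.conj (β y) := by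
  ext w
  simp only [MulAut.conj_apply, MulAut.mul_apply, map_mul, map_inv, MulAut.apply_inv_self]

theorem emb_injective (hc : Subgroup.center Y = ⊥) (D : Subgroup (MulAut Y)) : Function.Injective (emb D) := by
  rw [injective_iff_map_eq_one]
  intro y hy
  have h1 : MulAut.conj y = 1 := congrArg Subtype.val hy
  rw [← Subgroup.mem_bot, ← hc, Subgroup.mem_center_iff]
  intro g
  have h2 : MulAut.conj y g = g := by rw [h1]; rfl
  rw [MulAut.conj_apply, mul_inv_eq_iff_eq_mul] at h2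
  exact h2.symm

instance range_normal (D : Subgroup (MulAut Y)) : (emb D).range.Normal := by
  refine ⟨?_⟩
  rintro _ ⟨y, rfl⟩ g
  exact ⟨(g : MulAut Y) y, Subtype.ext (mul_conj_inv _ _).symm⟩

theorem mem_Gad (D : Subgroup (MulAut Y)) (g : ↥(Gad D)) : ∃ y : Y, ∃ d ∈ D, (g : MulAut Y) = MulAut.conj y * d := by
  have hN : ((MulAut.conj : Y →* MulAut Y).range).Normal := by
    refine ⟨?_⟩
    rintro _ ⟨y, rfl⟩ g
    exact ⟨g y, (mul_conj_inv _ _).symm⟩
  obtain ⟨_, ⟨y, rfl⟩, d, hd, e⟩ := Subgroup.mem_sup_of_normal_left.1 g.2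
  exact ⟨y, d, hd, e.symm⟩

/-- The hypotheses on `Y` and `D`. -/
structure Data (cs : CoxeterSystem M W) (h : IsCartan M A) (p : ℕ) (T : Subgroup Y) (n : I → Y)
    (X : (I → ℤ) → Subgroup Y) (x : ∀ z, K z → Y) (D : Subgroup (MulAut Y)) : Prop where
  rgd : RGD cs h p T n X
  sys : Sys cs h T n X x
  g1 : G1 cs h X = ⊤
  cen : Subgroup.center Y = ⊥
  le : D ≤ Dg cs h x
  tor : ∀ t ∈ T, MulAut.conj t ∈ D
  norm : ∀ i, MulAut.conj (n i) ∈ Subgroup.normalizer (D : Set (MulAut Y))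
  full : ∀ c : ∀ i, K (sr i), (∀ i, c i ≠ 0) → ∃ d ∈ D, ∀ i a, d (x (sr i) a) = x (sr i) (c i * a)

/-- The root groups of `Gad D`. -/
def Xad (X : (I → ℤ) → Subgroup Y) (D : Subgroup (MulAut Y)) (z : I → ℤ) : Subgroup ↥(Gad D) :=
  ((X z).map MulAut.conj).subgroupOf (Gad D)

/-- The torus of `Gad D`. -/
def Tad (D : Subgroup (MulAut Y)) : Subgroup ↥(Gad D) := D.subgroupOf (Gad D)

theorem Xad_eq (X : (I → ℤ) → Subgroup Y) (D : Subgroup (MulAut Y)) (z : I → ℤ) : Xad X D z = (X z).map (emb D) := by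
  ext g
  constructor
  · rintro ⟨y, hy, e⟩
    exact ⟨y, hy, Subtype.ext e⟩
  · rintro ⟨y, hy, rfl⟩
    exact ⟨y, hy, rfl⟩

namespace Data

variable {D : Subgroup (MulAut Y)} (H : Data cs h p T n X x D)

include H

theorem rgd' [Finite W] [Finite Y] [Fact p.Prime] :
    RGD cs h p (Tad D) (fun i => emb D (n i)) (Xad X D) := by
  have h1 := rgd_of_le H.rgd H.sys H.g1 H.le (by rintro _ ⟨t, ht, rfl⟩; exact H.tor t ht) H.norm
  exact rgd_restrict h1 (Gad D) (fun z _ => by rintro _ ⟨y, -, rfl⟩; exact conj_mem_Gad D y) (fun i => conj_mem_Gad D _)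

theorem inj : Function.Injective (emb D) := emb_injective H.cen D

theorem sys' : Sys cs h (Tad D) (fun i => emb D (n i)) (Xad X D) (fun z a => emb D (x z a)) where
  mem z hz g := by
    rw [Xad_eq]
    constructor
    · rintro ⟨y, hy, rfl⟩
      obtain ⟨a, rfl⟩ := (H.sys.mem z hz y).1 hy
      exact ⟨a, rfl⟩
    · rintro ⟨a, rfl⟩
      exact ⟨_, (H.sys.mem z hz _).2 ⟨a, rfl⟩, rfl⟩
  inj z hz := H.inj.comp (H.sys.inj z hz)
  add z hz a b := by rw [H.sys.add z hz, map_mul]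
  tor z hz t ht := by
    obtain ⟨c, hc, e⟩ := H.le (show (t : MulAut Y) ∈ D from ht) z hz
    refine ⟨c, hc, fun a => Subtype.ext ?_⟩
    show (t : MulAut Y) * MulAut.conj (x z a) * (t : MulAut Y)⁻¹ = MulAut.conj (x z (c * a))
    rw [mul_conj_inv, e]
  nact i z hz := by
    obtain ⟨σ, c, hc, e⟩ := H.sys.nact i z hz
    exact ⟨σ, c, hc, fun a => by rw [← map_mul, ← map_inv, ← map_mul, e]⟩

theorem G1' : G1 cs h (Xad X D) = (emb D).range := by
  have h1 : G1 cs h (Xad X D) = (G1 cs h X).map (emb D) := by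
    unfold G1 RGD.Sup
    rw [Subgroup.map_iSup]
    exact iSup_congr fun z => Xad_eq X D z.1
  rw [h1, H.g1, ← MonoidHom.range_eq_map]

/-- **the adjoint group** -/
theorem adj [Finite W] [Finite Y] [Fact p.Prime] :
    Adj cs h p (Tad D) (fun i => emb D (n i)) (Xad X D) (fun z a => emb D (x z a)) where
  rgd := H.rgd'
  sys := H.sys'
  comm s hs t ht := by
    apply Subtype.ext
    exact H.sys.comm H.g1 (H.le hs) (H.le ht)
  full c hc := by
    obtain ⟨d, hd, e⟩ := H.full c hc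
    refine ⟨⟨d, D_le_Gad D hd⟩, hd, fun i a => Subtype.ext ?_⟩
    show d * MulAut.conj (x (sr i) a) * d⁻¹ = MulAut.conj (x (sr i) (c i * a))
    rw [mul_conj_inv, e]
  gen := by
    rw [eq_top_iff]
    rintro g -
    obtain ⟨y, d, hd, e⟩ := mem_Gad D g
    have h1 : g = emb D y * ⟨d, D_le_Gad D hd⟩ := Subtype.ext e
    rw [h1]
    refine mul_mem ?_ ?_
    · have h2 : emb D y ∈ G1 cs h (Xad X D) := by rw [H.G1']; exact ⟨y, rfl⟩
      exact (le_sup_right : G1 cs h (Xad X D) ≤ GG cs h (Tad D) (Xad X D)) h2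
    · exact (le_sup_left : Tad D ≤ GG cs h (Tad D) (Xad X D)) hd
  cen := by
    rw [eq_bot_iff]
    intro g hg
    rw [Subgroup.mem_center_iff] at hg
    rw [Subgroup.mem_bot]
    apply Subtype.ext
    apply MulEquiv.ext
    intro y
    have h1 := congrArg Subtype.val (hg (emb D y))
    have h2 : MulAut.conj y * (g : MulAut Y) = (g : MulAut Y) * MulAut.conj y := h1
    have h3 : MulAut.conj ((g : MulAut Y) y) = MulAut.conj y := by
      rw [← mul_conj_inv, ← h2, mul_inv_cancel_right]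
    exact H.inj (Subtype.ext h3)

/-- the quotient by the inner automorphisms is abelian -/
theorem comm_quot (a b : ↥(Gad D)) : ⁅a, b⁆ ∈ (emb D).range := by
  obtain ⟨y, d, hd, e⟩ := mem_Gad D a
  obtain ⟨z, d', hd', e'⟩ := mem_Gad D b
  have h1 : a = emb D y * ⟨d, D_le_Gad D hd⟩ := Subtype.ext e
  have h2 : b = emb D z * ⟨d', D_le_Gad D hd'⟩ := Subtype.ext e'
  have h3 : (QuotientGroup.mk' (emb D).range) ⁅a, b⁆ = 1 := by
    rw [map_commutatorElement, h1, h2, map_mul, map_mul]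
    have h4 : ∀ y, (QuotientGroup.mk' (emb D).range) (emb D y) = 1 := fun y => by
      rw [← MonoidHom.mem_ker, QuotientGroup.ker_mk']
      exact ⟨y, rfl⟩
    rw [h4, h4, one_mul, one_mul, ← map_commutatorElement]
    have h5 : ⁅(⟨d, D_le_Gad D hd⟩ : ↥(Gad D)), (⟨d', D_le_Gad D hd'⟩ : ↥(Gad D))⁆ = 1 := by
      rw [commutatorElement_eq_one_iff_mul_comm]
      apply Subtype.ext
      exact H.sys.comm H.g1 (H.le hd) (H.le hd')
    rw [h5, map_one]
  rwa [← MonoidHom.mem_ker, QuotientGroup.ker_mk'] at h3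

/-- the index of the group of inner automorphisms divides the order of `D` and is prime to `p` -/
theorem index_dvd : (emb D).range.index ∣ Nat.card D := by
  let f : ↥D →* ↥(Gad D) ⧸ (emb D).range := (QuotientGroup.mk' (emb D).range).comp (Subgroup.inclusion (D_le_Gad D))
  have hf : Function.Surjective f := by
    intro g
    obtain ⟨g, rfl⟩ := QuotientGroup.mk'_surjective _ g
    obtain ⟨y, d, hd, e⟩ := mem_Gad D g
    have h1 : g = emb D y * ⟨d, D_le_Gad D hd⟩ := Subtype.ext e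
    refine ⟨⟨d, hd⟩, ?_⟩
    rw [h1, map_mul]
    have h4 : (QuotientGroup.mk' (emb D).range) (emb D y) = 1 := by
      rw [← MonoidHom.mem_ker, QuotientGroup.ker_mk']
      exact ⟨y, rfl⟩
    rw [h4, one_mul]
    rfl
  rw [Subgroup.index_eq_card]
  exact Subgroup.card_dvd_of_surjective f hf

theorem cop [Finite W] [Finite Y] [Fact p.Prime] : (Nat.card D).Coprime p :=
  Nat.Coprime.coprime_dvd_left (Subgroup.card_dvd_of_le H.le) (H.sys.cop H.rgd H.g1)

theorem index_coprime [Finite W] [Finite Y] [Fact p.Prime] : (emb D).range.index.Coprime p :=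
  Nat.Coprime.coprime_dvd_left H.index_dvd H.cop

/-- **the anti-automorphism** `g ↦ ω g⁻¹ ω⁻¹` -/
theorem anti {ω : MulAut Y} (hω : ω * ω = 1) (hX : ∀ z, IsRoot cs h z → ∀ y ∈ X z, ω y ∈ X (-z))
    (hD : ∀ d ∈ D, ω * d * ω⁻¹ = d⁻¹) :
    ∃ φ : ↥(Gad D) → ↥(Gad D), (∀ g, (φ g : MulAut Y) = ω * (g : MulAut Y)⁻¹ * ω⁻¹) ∧
      H92.GG.Anti cs h (Tad D) (Xad X D) φ := by
  have hmem : ∀ g : ↥(Gad D), ω * (g : MulAut Y)⁻¹ * ω⁻¹ ∈ Gad D := by
    intro g
    obtain ⟨y, d, hd, e⟩ := mem_Gad D g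
    have h1 : ω * (g : MulAut Y)⁻¹ * ω⁻¹ = d * MulAut.conj (ω y⁻¹) := by
      have h2 : ω * d⁻¹ * ω⁻¹ = d := by
        rw [hD _ (inv_mem hd), inv_inv]
      rw [← mul_conj_inv, map_inv, e, mul_inv_rev]
      calc ω * (d⁻¹ * (MulAut.conj y)⁻¹) * ω⁻¹ = (ω * d⁻¹ * ω⁻¹) * (ω * (MulAut.conj y)⁻¹ * ω⁻¹) := by group
        _ = d * (ω * (MulAut.conj y)⁻¹ * ω⁻¹) := by rw [h2]
    rw [h1]
    exact mul_mem (D_le_Gad D hd) (conj_mem_Gad D _)
  refine ⟨fun g => ⟨_, hmem g⟩, fun g => rfl, ?_, ?_, ?_, ?_⟩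
  · intro a b
    apply Subtype.ext
    show ω * ((a : MulAut Y) * b)⁻¹ * ω⁻¹ = (ω * (b : MulAut Y)⁻¹ * ω⁻¹) * (ω * (a : MulAut Y)⁻¹ * ω⁻¹)
    group
  · intro a
    apply Subtype.ext
    show ω * (ω * (a : MulAut Y)⁻¹ * ω⁻¹)⁻¹ * ω⁻¹ = a
    calc ω * (ω * (a : MulAut Y)⁻¹ * ω⁻¹)⁻¹ * ω⁻¹ = (ω * ω) * a * (ω * ω)⁻¹ := by group
      _ = a := by rw [hω, one_mul, inv_one, mul_one]
  · rintro z hz g hg
    rw [Xad_eq] at hg
    obtain ⟨y, hy, rfl⟩ := hg
    rw [Xad_eq]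
    refine ⟨ω y⁻¹, hX z hz _ (inv_mem hy), Subtype.ext ?_⟩
    show MulAut.conj (ω y⁻¹) = ω * (MulAut.conj y)⁻¹ * ω⁻¹
    rw [← mul_conj_inv, map_inv]
  · intro t ht
    apply Subtype.ext
    show ω * (t : MulAut Y)⁻¹ * ω⁻¹ = t
    rw [hD _ (inv_mem (show (t : MulAut Y) ∈ D from ht)), inv_inv]

end Data

end Cfsg.Agent.H928.Ad
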