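import Cfsg.Agent.H928.Ad.Grp
import Cfsg.Agent.H92.GG.Mult

/-!
# Nondegenerate characters of `U_J` in an adjoint group (helper928, S4884)

* `exists_scale`, `eq_one_of_scale` : nontrivial additive characters of a finite field;
* `Adj.rigid` : `H92.GG.Rigid`; `Adj.trans` : `T` is transitive on the nondegenerate characters of `U_J`;
-/

set_option autoImplicit false
set_option linter.unusedSectionVars false

namespace Cfsg.Agent.H928.Ad

open CoxeterSystem Cfsg.Agent.ChevalleyStructure.CoxeterGeom Cfsg.Agent.Tits.Roots Cfsg.Agent.Tits.Core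
  Cfsg.Agent.Tits.RootComb Cfsg.Agent.Nodes.Comb Cfsg.Agent.Nodes.Reps Cfsg.Agent.Nodes.BNOf Cfsg.Agent.Nodes.RGDLib
  Cfsg.Agent.Nodes.Bruhat Cfsg.Agent.Nodes.StabComb Cfsg.Agent.Nodes.LeviDec Cfsg.Agent.H92.GG

universe v

/-! ### additive characters -/

section Add

variable {F : Type*} [Field F]

/-- additive character from a map to the units -/
noncomputable def toAC (ψ : F → ℂˣ) (h : ∀ a b, ψ (a + b) = ψ a * ψ b) : AddChar F ℂ where
  toFun a := (ψ a : ℂ)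
  map_zero_eq_one' := by
    have := h 0 0
    rw [add_zero] at this
    rw [left_eq_mul.1 this]
    rfl
  map_add_eq_mul' a b := by rw [h, Units.val_mul]

theorem toAC_ne_one {ψ : F → ℂˣ} {h : ∀ a b, ψ (a + b) = ψ a * ψ b} (hne : ∃ a, ψ a ≠ 1) : toAC ψ h ≠ 1 := by
  obtain ⟨a, ha⟩ := hne
  intro h1
  apply ha
  apply Units.ext
  exact DFunLike.congr_fun h1 a

/-- two nontrivial additive characters of a finite field differ by a scalar -/
theorem exists_scale [Finite F] {ψ ψ' : F → ℂˣ} (h : ∀ a b, ψ (a + b) = ψ a * ψ b)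
    (h' : ∀ a b, ψ' (a + b) = ψ' a * ψ' b) (hne : ∃ a, ψ a ≠ 1) (hne' : ∃ a, ψ' a ≠ 1) :
    ∃ c, c ≠ 0 ∧ ∀ a, ψ' a = ψ (c * a) := by
  have := Fintype.ofFinite F
  have hp : (toAC ψ h).IsPrimitive := AddChar.IsPrimitive.of_ne_one (toAC_ne_one hne)
  have hinj := AddChar.to_mulShift_inj_of_isPrimitive hp
  have hbij : Function.Bijective (toAC ψ h).mulShift := by
    refine (Fintype.bijective_iff_injective_and_card _).2 ⟨hinj, ?_⟩
    exact AddChar.card_eq.symm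
  obtain ⟨c, hc⟩ := hbij.2 (toAC ψ' h')
  have e : ∀ a, ψ' a = ψ (c * a) := by
    intro a
    apply Units.ext
    exact (DFunLike.congr_fun hc a).symm
  refine ⟨c, ?_, e⟩
  rintro rfl
  obtain ⟨a, ha⟩ := hne'
  apply ha
  rw [e, zero_mul]
  have := h 0 0
  rw [add_zero] at this
  exact left_eq_mul.1 this

theorem eq_one_of_scale {ψ : F → ℂˣ} (h : ∀ a b, ψ (a + b) = ψ a * ψ b) (hne : ∃ a, ψ a ≠ 1) {c : F}
    (hc : ∀ a, ψ (c * a) = ψ a) : c = 1 := by
  obtain ⟨b, hb⟩ := hne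
  by_contra hc1
  have h0 : c - 1 ≠ 0 := sub_ne_zero.2 hc1
  apply hb
  have h1 := hc ((c - 1)⁻¹ * b)
  have h2 : c * ((c - 1)⁻¹ * b) = b + (c - 1)⁻¹ * b := by
    field_simp
    ring
  rw [h2, h] at h1
  exact mul_eq_right.1 h1

end Add

variable {I W : Type*} [Fintype I] [DecidableEq I] [Group W] {Y : Type*} [Group Y] {M : CoxeterMatrix I}
  {cs : CoxeterSystem M W} {A : I → I → ℤ} {h : IsCartan M A} {p : ℕ} {T : Subgroup Y} {n : I → Y}
  {X : (I → ℤ) → Subgroup Y} {K : (I → ℤ) → Type v} [∀ z, Field (K z)] {x : ∀ z, K z → Y}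

theorem Sys.finite [Finite Y] (S : Sys cs h T n X x) {z : I → ℤ} (hz : IsRoot cs h z) : Finite (K z) :=
  Finite.of_injective _ (S.inj z hz)

theorem x_mem_UJ (S : Sys cs h T n X x) {J : Set I} {i : I} (hi : i ∈ J) (a : K (sr i)) :
    x (sr i) a ∈ UJ cs h X J :=
  X_le_UJ (sr_mem_PosJ hi) ((S.mem _ (isRoot_sr cs h i) _).2 ⟨a, rfl⟩)

theorem add_of (S : Sys cs h T n X x) {J : Set I} {ψ : Y → ℂˣ} (N : Nondeg cs h X J ψ) {i : I} (hi : i ∈ J)
    (a b : K (sr i)) : ψ (x (sr i) (a + b)) = ψ (x (sr i) a) * ψ (x (sr i) b) := by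
  rw [S.add _ (isRoot_sr cs h i), N.mul _ (x_mem_UJ S hi a) _ (x_mem_UJ S hi b)]

theorem ne_of (S : Sys cs h T n X x) {J : Set I} {ψ : Y → ℂˣ} (N : Nondeg cs h X J ψ) {i : I} (hi : i ∈ J) :
    ∃ a, ψ (x (sr i) a) ≠ 1 := by
  obtain ⟨y, hy, h1⟩ := N.simple i hi
  obtain ⟨a, rfl⟩ := (S.mem _ (isRoot_sr cs h i) y).1 hy
  exact ⟨a, h1⟩

namespace Adj

variable (H : Adj cs h p T n X x)

include H

theorem rigid {J : Set I} {ψ : Y → ℂˣ} (N : Nondeg cs h X J ψ) : Rigid T X J ψ := by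
  intro i hi t ht hc y hy
  obtain ⟨c, -, e⟩ := H.sys.tor _ (isRoot_sr cs h i) t ht
  have h1 : c = 1 := by
    refine eq_one_of_scale (ψ := fun a => ψ (x (sr i) a)) (add_of H.sys N hi) (ne_of H.sys N hi) fun a => ?_
    rw [← e]
    exact hc _ ((H.sys.mem _ (isRoot_sr cs h i) _).2 ⟨a, rfl⟩)
  obtain ⟨a, rfl⟩ := (H.sys.mem _ (isRoot_sr cs h i) y).1 hy
  have h2 := e a
  rw [h1, one_mul, mul_inv_eq_iff_eq_mul] at h2
  exact h2

theorem tor_UJ {J : Set I} {t : Y} (ht : t ∈ T) {u : Y} (hu : u ∈ UJ cs h X J) : t * u * t⁻¹ ∈ UJ cs h X J := by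
  have h1 : cj t (UJ cs h X J) = UJ cs h X J := by
    unfold UJ
    rw [RGD.cj_Sup]
    exact iSup_congr fun z => H.rgd.tor z.1 z.2.1 t ht
  rw [← h1]
  exact conj_mem_cj.2 hu

/-- **`T` is transitive on the nondegenerate characters of `U_J`.** -/
theorem trans [Finite Y] {J : Set I} {ψ ψ' : Y → ℂˣ} (N : Nondeg cs h X J ψ) (N' : Nondeg cs h X J ψ') :
    ∃ t ∈ T, ∀ u ∈ UJ cs h X J, ψ' u = ψ (t * u * t⁻¹) := by
  classical
  have hex : ∀ i : I, ∃ c : K (sr i), c ≠ 0 ∧ (i ∈ J → ∀ a, ψ' (x (sr i) a) = ψ (x (sr i) (c * a))) := by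
    intro i
    by_cases hi : i ∈ J
    · have := H.sys.finite (isRoot_sr cs h i)
      obtain ⟨c, hc, e⟩ := exists_scale (add_of H.sys N hi) (add_of H.sys N' hi) (ne_of H.sys N hi)
        (ne_of H.sys N' hi)
      exact ⟨c, hc, fun _ => e⟩
    · exact ⟨1, one_ne_zero, fun h1 => absurd h1 hi⟩
  choose c hc e using hex
  obtain ⟨t, ht, f⟩ := H.full c hc
  refine ⟨t, ht, fun u hu => ?_⟩
  have hu' : u ∈ RGD.Sup X (PosJ cs h J) := hu
  unfold RGD.Sup at hu'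
  induction hu' using Subgroup.iSup_induction' with
  | hp z y hy =>
    obtain ⟨z, hz⟩ := z
    change y ∈ X z at hy
    by_cases h1 : ∀ i, z ≠ sr i
    · rw [N'.high z hz h1 y hy, N.high z hz h1]
      rw [← H.rgd.tor z hz.1 t ht]
      exact conj_mem_cj.2 hy
    · push Not at h1
      obtain ⟨i, rfl⟩ := h1
      have hi : i ∈ J := by
        by_contra hi
        have := hz.2.2 i hi
        rw [sr_self] at this
        exact one_ne_zero this
      obtain ⟨a, rfl⟩ := (H.sys.mem _ (isRoot_sr cs h i) y).1 hy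
      rw [e i hi, f]
  | h1 =>
    rw [N'.one, mul_one, mul_inv_cancel, N.one]
  | hmul y z hy hz ihy ihz =>
    have hy' : y ∈ UJ cs h X J := hy
    have hz' : z ∈ UJ cs h X J := hz
    have h2 : t * (y * z) * t⁻¹ = (t * y * t⁻¹) * (t * z * t⁻¹) := by group
    rw [N'.mul y hy' z hz', ihy hy', ihz hz', h2, N.mul _ (H.tor_UJ ht hy') _ (H.tor_UJ ht hz')]

end Adj

end Cfsg.Agent.H928.Ad
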