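import Cfsg.Agent.H928.Ad.Dm
import Cfsg.Agent.H928.Ad.Node
import Cfsg.Agent.KFacts.RgdChevCoord
import Cfsg.Agent.H70.OutCount
import Cfsg.Agent.H70.ChevDiag
import Cfsg.Agent.H405.UE.NegSymm

/-!
# The adjoint groups of the tabulated Chevalley groups (helper928, S4884)

`G₂ B₂ D₄ F₄ E₆ E₇ E₈` over a finite field `K` of characteristic `p`: `data`, `adj`, `anti`.
-/

set_option autoImplicit false
set_option linter.unusedSectionVars false

namespace Cfsg.Agent.H928.Ad.Chev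

open CoxeterSystem Cfsg.Agent.ChevalleyStructure.CoxeterGeom Cfsg.Agent.Tits.Roots Cfsg.Agent.Tits.Core
  Cfsg.Agent.Tits.RootComb Cfsg.Agent.Nodes.Comb Cfsg.Agent.Nodes.Reps Cfsg.Agent.Nodes.BNOf Cfsg.Agent.Nodes.RGDLib
  Cfsg.Agent.Nodes.Bruhat Cfsg.Agent.Nodes.RGDChev Cfsg.Agent.KFacts.RgdField Cfsg.Agent.KFacts.RgdChevCoord
open Cfsg.Lie Cfsg.Agent.ChevalleyStructure Cfsg.Agent.ChevalleyStructure.Elts

universe u

variable {D : ChevalleyDatum} {l : ℕ} {M : CoxeterMatrix (Fin l)} (hp : IsType D l M) {K : Type u} [Field K]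
  {W : Type*} [Group W] (cs : CoxeterSystem M W)

/-- a torus element acts by a character -/
theorem tor_char {t : GL D.Idx K} (ht : t ∈ D.diagonalSubgroup K) : ∃ χ : ℕ → K, ∀ s, s < D.nroots →
    χ s ≠ 0 ∧ χ (D.neg s) = (χ s)⁻¹ ∧ ∀ a : K, t * xG hp.inList s a * t⁻¹ = xG hp.inList s (χ s * a) := by
  have hD := hp.inList
  have hc : RootVecTab.Checked D := RootVecTab.checked_of_mem hD
  obtain ⟨c, hc0, hw⟩ := S1034.result D hD t ht
  have key : ∀ L : List ℕ, (∀ i ∈ L, i < D.rank) → ∃ d : ℕ → K, ∀ s, s < D.nroots → d s ≠ 0 ∧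
      d (D.neg s) = (d s)⁻¹ ∧ ∀ a : K,
      D.wordMat K (L.flatMap fun i => D.hWord (D.simple i) (c i)) * D.x K s a =
        D.x K s (d s * a) * D.wordMat K (L.flatMap fun i => D.hWord (D.simple i) (c i)) := by
    intro L
    induction L with
    | nil =>
      intro _
      refine ⟨fun _ => 1, fun s hs => ⟨one_ne_zero, inv_one.symm, fun a => ?_⟩⟩
      rw [List.flatMap_nil, wordMat_nil, one_mul, one_mul, mul_one]
    | cons i L ih =>
      intro hL
      obtain ⟨d, hd⟩ := ih fun j hj => hL j (List.mem_cons_of_mem _ hj)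
      have hi := hL i List.mem_cons_self
      refine ⟨fun s => c i ^ D.cartan i s * d s, fun s hs => ⟨mul_ne_zero (zpow_ne_zero _ (hc0 i hi)) (hd s hs).1, ?_,
        fun a => ?_⟩⟩
      · show c i ^ D.cartan i (D.neg s) * d (D.neg s) = (c i ^ D.cartan i s * d s)⁻¹
        rw [(hd s hs).2.1, RootVec.cartan_neg hc hi hs, zpow_neg, mul_inv]
      · have h1 : D.wordMat K (D.hWord (D.simple i) (c i)) * D.x K s (d s * a) =
            D.x K s (c i ^ D.cartan i s * (d s * a)) * D.wordMat K (D.hWord (D.simple i) (c i)) :=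
          S1032.result D hD i s hi hs (c i) (hc0 i hi) (d s * a)
        rw [List.flatMap_cons, wordMat_append, mul_assoc, (hd s hs).2.2, ← mul_assoc, h1, mul_assoc,
          mul_assoc (c i ^ _)]
  obtain ⟨d, hd⟩ := key (List.range D.rank) fun i hi => List.mem_range.1 hi
  refine ⟨d, fun s hs => ⟨(hd s hs).1, (hd s hs).2.1, fun a => ?_⟩⟩
  rw [mul_inv_eq_iff_eq_mul]
  refine Units.ext ?_
  rw [Units.val_mul, Units.val_mul, coe_xG, coe_xG, hw]
  exact (hd s hs).2.2 a

/-- automorphisms acting by a function on the roots -/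
theorem mem_Dm_of {β : MulAut ↥(D.group K)} {χ : ℕ → K} (hχ : ∀ s, s < D.nroots → χ s ≠ 0 ∧ χ (D.neg s) = (χ s)⁻¹ ∧
    ∀ a : K, β (xc hp (vec D l s) a) = xc hp (vec D l s) (χ s * a)) :
    β ∈ Dm cs hp.isCartan (xc (K := K) hp) := by
  refine ⟨fun z => χ (idx D l z), fun z hz => ?_⟩
  obtain ⟨s, hs, rfl⟩ := (isRoot_iff hp cs z).1 hz
  have hc : RootVecTab.Checked D := RootVecTab.checked_of_mem hp.inList
  dsimp only
  rw [← vec_neg hp hs, idx_vec hp hs, idx_vec hp (RootVec.neg_lt hc hs)]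
  exact hχ s hs

theorem sys [Finite K] (p : ℕ) [Fact p.Prime] [CharP K p] :
    Sys (K := fun _ => K) cs hp.isCartan (TT D K) (nc hp K) (XX D l K) (xc hp) where
  mem z hz := ((coords hp cs p).coord z hz).mem
  inj z hz := ((coords hp cs p).coord z hz).inj
  add z hz := ((coords hp cs p).coord z hz).add
  tor z hz t ht := ⟨_, ((coords hp cs p).coord z hz).chi_ne_zero ht, ((coords hp cs p).coord z hz).act t ht⟩
  nact i z hz := by
    obtain ⟨c, hc, e⟩ := (coords (K := K) hp cs p).nact i z hz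
    exact ⟨RingEquiv.refl K, c, hc, e⟩

theorem tor_mem [Finite K] (p : ℕ) [Fact p.Prime] [CharP K p] {t : ↥(D.group K)} (ht : t ∈ TT D K) :
    MulAut.conj t ∈ Dm cs hp.isCartan (xc (K := K) hp) := by
  obtain ⟨χ, hχ⟩ := tor_char hp (K := K) (t := t) ht
  refine mem_Dm_of hp cs (χ := χ) fun s hs => ⟨(hχ s hs).1, (hχ s hs).2.1, fun a => Subtype.ext ?_⟩
  rw [MulAut.conj_apply, Subgroup.coe_mul, Subgroup.coe_mul, Subgroup.coe_inv, coe_xc hp hs, coe_xc hp hs]
  exact (hχ s hs).2.2 a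

/-- all tuples of scalars on the simple root groups -/
theorem full (c : Fin l → K) (hc : ∀ i, c i ≠ 0) : ∃ d ∈ Dm cs hp.isCartan (xc (K := K) hp),
    ∀ (i : Fin l) (a : K), d (xc hp (sr i) a) = xc hp (sr i) (c i * a) := by
  have hD := hp.inList
  have hrk := hp.rank_eq
  obtain ⟨χ, hm, h1, -⟩ := H70.ChevDiag.exists_diagAut (F := K) hD
    (fun j => Units.mk0 (c (Fin.cast hrk j)) (hc _))
  have hx : ∀ s, s < D.nroots → ∀ a : K, H70.ChevDiag.diagAut hD hm (xc hp (vec D l s) a) =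
      xc hp (vec D l s) ((χ s : K) * a) := by
    intro s hs a
    apply Subtype.ext
    rw [H70.ChevDiag.coe_diagAut, coe_xc hp hs, coe_xc hp hs]
    exact H70.ChevDiag.dG_conj hD hm s a
  refine ⟨H70.ChevDiag.diagAut hD hm, mem_Dm_of hp cs (χ := fun s => (χ s : K)) fun s hs =>
    ⟨Units.ne_zero _, ?_, hx s hs⟩, fun i a => ?_⟩
  · rw [hm.isRootCharacter.1 s hs, Units.val_inv_eq_inv_val]
  · have h2 := hx _ ((RootComb.good_of_mem hD).simple_lt (lt_rank hp i)) a
    rw [vec_simple hp i] at h2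
    rw [h2]
    have h3 := h1 (Fin.cast hrk.symm i)
    have h4 : (χ (D.simple i) : K) = c i := by
      have : ((Fin.cast hrk.symm i : Fin D.rank) : ℕ) = (i : ℕ) := rfl
      rw [this] at h3
      rw [h3]
      rfl
    rw [h4]

/-- **the adjoint group** -/
theorem data [Finite K] (p : ℕ) [Fact p.Prime] [CharP K p] :
    Data (K := fun _ => K) cs hp.isCartan p (TT D K) (nc hp K) (XX D l K) (xc hp)
      (Dm cs hp.isCartan (xc (K := K) hp)) where
  rgd := rgd hp cs p
  sys := sys hp cs p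
  g1 := G1_eq_top hp cs
  cen := H70.OutCount.center_eq_bot hp.inList
  le := Dm_le
  tor _ ht := tor_mem hp cs p ht
  norm := Dm_norm (fun i z hz => (coords (K := K) hp cs p).nact i z hz) (rgd (K := K) hp cs p).nsys
    (fun _ ht => tor_mem hp cs p ht)
  full := full hp cs

/-- the Chevalley involution -/
noncomputable def om (K : Type u) [Field K] : MulAut ↥(D.group K) := (H405.UE.negSymm hp.inList).aut K

theorem om_xc {s : ℕ} (hs : s < D.nroots) (a : K) : om hp K (xc hp (vec D l s) a) = xc hp (-vec D l s) (-a) := by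
  have hc : RootVecTab.Checked D := RootVecTab.checked_of_mem hp.inList
  apply Subtype.ext
  rw [← vec_neg hp hs, coe_xc hp (RootVec.neg_lt hc hs)]
  have h1 := H405.UE.negAut_xG hp.inList (F := K) s a hs
  have h2 : xc hp (vec D l s) a = ⟨xG hp.inList s a, xG_mem_group hp.inList s a⟩ := Subtype.ext (coe_xc hp hs a)
  rw [h2]
  exact h1

theorem om_spec {z : Fin l → ℤ} (hz : IsRoot cs hp.isCartan z) (a : K) : om hp K (xc hp z a) = xc hp (-z) (-a) := by
  obtain ⟨s, hs, rfl⟩ := (isRoot_iff hp cs z).1 hz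
  exact om_xc hp hs a

theorem om_om [Finite K] (p : ℕ) [Fact p.Prime] [CharP K p] : om hp K * om hp K = 1 := by
  have S := sys (K := K) hp M.toCoxeterSystem p
  refine S.ext (G1_eq_top hp M.toCoxeterSystem) fun z hz a => ?_
  rw [MulAut.mul_apply, om_spec hp M.toCoxeterSystem hz, om_spec hp M.toCoxeterSystem hz.neg, neg_neg, neg_neg]
  rfl

/-- **the anti-automorphism** -/
theorem anti [Finite K] (p : ℕ) [Fact p.Prime] [CharP K p] :
    ∃ φ : ↥(Gad (Dm cs hp.isCartan (xc (K := K) hp))) → ↥(Gad (Dm cs hp.isCartan (xc (K := K) hp))),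
      (∀ g, (φ g : MulAut ↥(D.group K)) = om hp K * (g : MulAut ↥(D.group K))⁻¹ * (om hp K)⁻¹) ∧
      H92.GG.Anti cs hp.isCartan (Tad (Dm cs hp.isCartan (xc (K := K) hp)))
        (Xad (XX D l K) (Dm cs hp.isCartan (xc (K := K) hp))) φ := by
  refine (data (K := K) hp cs p).anti (om_om hp p) (fun z hz y hy => ?_) (fun d hd => ?_)
  · obtain ⟨a, rfl⟩ := ((sys (K := K) hp cs p).mem z hz y).1 hy
    exact ((sys (K := K) hp cs p).mem (-z) hz.neg _).2 ⟨-a, (om_spec hp cs hz a).symm⟩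
  · refine Dm_inv (sys hp cs p) (G1_eq_top hp cs) (fun z hz => ⟨-1, neg_ne_zero.2 one_ne_zero, fun a => ?_⟩) hd
    rw [neg_one_mul]
    exact om_spec hp cs hz a

end Cfsg.Agent.H928.Ad.Chev
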