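import Cfsg.Agent.H928.Ad.TwD
import Cfsg.Agent.H967.ThTwGood

/-!
# The adjoint group of `³D₄(q)` (helper928, S4884)
-/

set_option autoImplicit false
set_option linter.unusedSectionVars false

namespace Cfsg.Agent.H928.Ad.TwQ

open CoxeterSystem Cfsg.Agent.ChevalleyStructure.CoxeterGeom Cfsg.Agent.Tits.Roots Cfsg.Agent.Tits.Core
  Cfsg.Agent.Nodes Cfsg.Agent.Nodes.BNOf Cfsg.Agent.Nodes.RGDTwGen Cfsg.Agent.Nodes.RGDChev Cfsg.Agent.Nodes.RGDFold
  Cfsg.Agent.Nodes.RGDFoldSL Cfsg.Agent.Nodes.RGDTwTab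
  Cfsg.Agent.Nodes.RGDTwCoord Cfsg.Agent.H967.ThTw
open Cfsg.Lie Cfsg.Agent.ChevalleyStructure Cfsg.Agent.H70.RootCoeffTab Cfsg.Agent.H70.ChevDiag

universe u

/-- the root coefficients -/
def mD (r i : ℕ) : ℤ := (dig MD4 4 r i : ℤ) - 8

theorem rootCoeff_mD : RootCoeff chevD4 mD :=
  rootCoeff_of_chk (M := MD4) (by decide +kernel) (by decide +kernel) (by decide +kernel)

theorem twH : Tw.TwH chevD4 RGDTwD4.J RGDTwD4.rho RGDTwD4.eps where
  inv := by decide +kernel
  comm := by decide +kernel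
  wneg := by decide +kernel
  rneg := by decide +kernel
  rlt := by decide +kernel
  eps := by decide +kernel

/-- the permutation of the nodes -/
def pi4 : Fin 4 → Fin 4 := ![2, 1, 3, 0]

theorem mD_rho : ∀ r < 24, ∀ j : Fin 4, mD (RGDTwD4.rho r) (pi4 j) = mD r j := by decide +kernel

theorem pi4_bij : Function.Bijective pi4 := by decide

theorem heads : ∀ i : Fin 2, (cl chevD4 RGDTwD4.J O4 (sr i)).headD 0 = chevD4.simple ((![1, 0] : Fin 2 → ℕ) i) ∧
    (cl chevD4 RGDTwD4.J O4 (sr i)).length = (![1, 3] : Fin 2 → ℕ) i := by decide +kernel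

theorem twR {K : Type u} [Field K] {φ : K →+* K} : Tw.TwR chevD4 RGDTwD4.J O4 RGDTwD4.rho φ := by
  intro c hc hc0
  have h0 : φ (c 0) = c 0 := by
    have := hc 0
    rw [(heads 0).2] at this
    exact this
  have h1 : φ (φ (φ (c 1))) = c 1 := by
    have := hc 1
    rw [(heads 1).2] at this
    exact this
  let u : Fin 2 → Kˣ := fun i => Units.mk0 (c i) (hc0 i)
  let φu : Kˣ →* Kˣ := Units.map φ.toMonoidHom
  let c' : Fin 4 → Kˣ := ![u 1, u 0, φu (u 1), φu (φu (u 1))]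
  have hφ : ∀ j : Fin 4, c' (pi4 j) = φu (c' j) := by
    have e0 : φu (u 0) = u 0 := Units.ext h0
    have e1 : φu (φu (φu (u 1))) = u 1 := Units.ext h1
    intro j
    fin_cases j
    · rfl
    · exact e0.symm
    · rfl
    · exact e1.symm
  have hD := RGDTwD4.hp.inList
  refine ⟨chi 4 mD c', isMul_chi (D := chevD4) hD rootCoeff_mD c', fun r hr => ?_, fun i => ?_⟩
  · have e : chi 4 mD c' (RGDTwD4.rho r) = φu (chi 4 mD c' r) := by
      unfold chi
      rw [map_prod, ← Equiv.prod_comp (Equiv.ofBijective pi4 pi4_bij)]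
      refine Finset.prod_congr rfl fun j _ => ?_
      show c' (pi4 j) ^ mD (RGDTwD4.rho r) (pi4 j) = φu (c' j ^ mD r j)
      rw [hφ, mD_rho r hr, map_zpow]
    rw [e]
    rfl
  · rw [(heads i).1]
    have h4 : ∀ j : Fin 4, chi 4 mD c' (chevD4.simple j) = c' j := fun j =>
      chi_simple (D := chevD4) hD rootCoeff_mD c' j
    fin_cases i
    · exact congrArg Units.val (h4 1)
    · exact congrArg Units.val (h4 0)

end Cfsg.Agent.H928.Ad.TwQ
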