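import Cfsg.Agent.H928.Ad.TwE
import Cfsg.Agent.H928.Ad.TwQ
import Cfsg.Agent.H40.Ch.Data
import Cfsg.Agent.H396.CommTab3
import Cfsg.Agent.S1070
import Cfsg.Agent.S1071

/-!
# `Data` for `²E₆(q)`, `³D₄(q)`; `RowB` in characteristic two (helper928, S4884)

* `data_E6`, `anti_E6`, `data_D4`, `anti_D4` : every characteristic;
* `rowB_twE6`, `rowB_twD4` : characteristic two.
-/

set_option autoImplicit false
set_option linter.unusedSectionVars false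

namespace Cfsg.Agent.H928.Ad.TwRow

open CoxeterSystem Cfsg.Agent.ChevalleyStructure.CoxeterGeom Cfsg.Agent.Tits.Roots Cfsg.Agent.Tits.Core
  Cfsg.Agent.Nodes Cfsg.Agent.Nodes.BNOf Cfsg.Agent.Nodes.RGDTwGen Cfsg.Agent.Nodes.RGDChev Cfsg.Agent.Nodes.RGDFold
  Cfsg.Agent.Nodes.RGDFoldSL Cfsg.Agent.Nodes.RGDTwTab Cfsg.Agent.Nodes.RGDTwCoord
open Cfsg.Lie Cfsg.Agent.ChevalleyStructure

universe u

/-- the centre of a nonabelian simple group -/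
theorem center_eq_bot {S : Type*} [Group S] (hs : IsSimpleGroup S) (h : ¬ IsMulCommutative S) :
    Subgroup.center S = ⊥ := by
  rcases IsSimpleGroup.eq_bot_or_eq_top_of_normal (Subgroup.center S) inferInstance with h1 | h1
  · exact h1
  · exfalso
    apply h
    refine ⟨⟨fun a b => ?_⟩⟩
    have : b ∈ Subgroup.center S := by rw [h1]; exact Subgroup.mem_top b
    exact Subgroup.mem_center_iff.1 this a

/-! ### `²E₆(q)` -/

section E6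

variable {K : Type u} [Field K] [Fintype K] {q : ℕ} {φ : K →+* K}

/-- the root elements of `²E₆(q)` -/
noncomputable abbrev xE (K : Type u) [Field K] (φ : K →+* K) (q : ℕ) (z : Fin 4 → ℤ)
    (a : Tw.KK K φ chevE6 RGDTwE6.J RGDTwCoordE6.O z) : ↥(twistedE6 K q) :=
  Tw.xx RGDTwE6.hp K RGDTwE6.J φ RGDTwCoordE6.dl RGDTwCoordE6.O (twistedE6 K q) z a

/-- the diagonal automorphisms of `²E₆(q)` -/
abbrev DE (K : Type u) [Field K] (φ : K →+* K) (q : ℕ) : Subgroup (MulAut ↥(twistedE6 K q)) :=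
  Tw.Dw RGDTwE6.hp TwistedE6Sigma.rho φ (twistedE6 K q)

/-- **the adjoint data of `²E₆(q)`**, every characteristic -/
theorem data_E6 {W : Type*} [Group W] (cs : CoxeterSystem CoxeterMatrix.F₄ W) (hφ : ∀ x, φ x = x ^ q)
    (hqq : ∀ t : K, (t ^ q) ^ q = t) (p : ℕ) [Fact p.Prime] [CharP K p]
    (hcen : Subgroup.center ↥(twistedE6 K q) = ⊥) :
    Data (K := Tw.KK K φ chevE6 RGDTwE6.J RGDTwCoordE6.O) cs RGDTwE6.isCartan p (RGDTwE6.T K q) (RGDTwE6.nn hφ)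
      (RGDTwE6.X φ q) (xE K φ q) (DE K φ q) :=
  Tw.data (RGDTwComE6.twC hφ hqq) TwE.twH cs RGDTwE6.isCartan p hcen TwE.twR

theorem anti_E6 {W : Type*} [Group W] (cs : CoxeterSystem CoxeterMatrix.F₄ W) (hφ : ∀ x, φ x = x ^ q)
    (hqq : ∀ t : K, (t ^ q) ^ q = t) (p : ℕ) [Fact p.Prime] [CharP K p]
    (hcen : Subgroup.center ↥(twistedE6 K q) = ⊥) :
    ∃ f, H92.GG.Anti cs RGDTwE6.isCartan (Tad (DE K φ q)) (Xad (RGDTwE6.X φ q) (DE K φ q)) f := by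
  obtain ⟨ω, -, h1, h2, h3⟩ := Tw.exists_om (RGDTwComE6.twC hφ hqq) TwE.twH p RGDTwE6.isCartan
  obtain ⟨f, -, hf⟩ := (data_E6 cs hφ hqq p hcen).anti h1 (fun z _ y hy => h2 z y hy) h3
  exact ⟨f, hf⟩

/-- **the row `²E₆(q)`, `q` even** -/
theorem rowB_twE6 (hq : IsPrimePow q) (hK : Fintype.card K = q ^ 2) [CharP K 2] {l : ℕ} (hl : l.Prime) (hl2 : l ≠ 2)
    (hd : l ∣ Nat.card ↥(twistedE6 K q)) : H706.PB.RowB l ↥(twistedE6 K q) := by
  have : Fact (Nat.Prime 2) := ⟨Nat.prime_two⟩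
  obtain ⟨φ, hφ, hqq⟩ := TwE6Basic.exists_frob hq hK
  have hcen : Subgroup.center ↥(twistedE6 K q) = ⊥ := by
    obtain ⟨h1, h2⟩ := S1070.result (K := K) hq hK
    exact center_eq_bot h1 h2
  have : Finite CoxeterMatrix.F₄.Group :=
    finite_W (hp := RGDTwE6.hp) CoxeterMatrix.F₄.toCoxeterSystem RGDTwE6.isCartan RGDTwE6.foldData
  obtain ⟨f, hf⟩ := anti_E6 CoxeterMatrix.F₄.toCoxeterSystem hφ hqq 2 hcen
  exact H40.Ch.rowB_data (data_E6 CoxeterMatrix.F₄.toCoxeterSystem hφ hqq 2 hcen)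
    (H396.CommTab.commGen_E6 _ hφ hqq (p := 2) (Omega.EH3.Kf.TwE6.exists_ne hφ hK hq.one_lt)) hf hl hl2 hd

end E6

/-! ### `³D₄(q)` -/

section D4

variable {K : Type u} [Field K] [Fintype K] {q : ℕ} {φ : K →+* K}

/-- the root elements of `³D₄(q)` -/
noncomputable abbrev xD (K : Type u) [Field K] (φ : K →+* K) (q : ℕ) (z : Fin 2 → ℤ)
    (a : Tw.KK K φ chevD4 RGDTwD4.J H967.ThTw.O4 z) : ↥(twistedD4 K q) :=
  Tw.xx RGDTwD4.hp K RGDTwD4.J φ H967.ThTw.dl4 H967.ThTw.O4 (twistedD4 K q) z a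

/-- the diagonal automorphisms of `³D₄(q)` -/
abbrev DD (K : Type u) [Field K] (φ : K →+* K) (q : ℕ) : Subgroup (MulAut ↥(twistedD4 K q)) :=
  Tw.Dw RGDTwD4.hp RGDTwD4.rho φ (twistedD4 K q)

/-- **the adjoint data of `³D₄(q)`**, every characteristic -/
theorem data_D4 {W : Type*} [Group W] (cs : CoxeterSystem CoxeterMatrix.G₂ W) (hK : Fintype.card K = q ^ 3)
    (hφ : ∀ x, φ x = x ^ q) (p : ℕ) [Fact p.Prime] [CharP K p]
    (hcen : Subgroup.center ↥(twistedD4 K q) = ⊥) :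
    Data (K := Tw.KK K φ chevD4 RGDTwD4.J H967.ThTw.O4) cs RGDTwD4.isCartan p (RGDTwD4.T K q) (RGDTwD4.n hφ)
      (RGDTwD4.X φ q) (xD K φ q) (DD K φ q) :=
  Tw.data (H967.ThTw.twC4 hφ (D4Fixed.twisted_le_fix hK hφ)) TwQ.twH cs RGDTwD4.isCartan p hcen TwQ.twR

theorem anti_D4 {W : Type*} [Group W] (cs : CoxeterSystem CoxeterMatrix.G₂ W) (hK : Fintype.card K = q ^ 3)
    (hφ : ∀ x, φ x = x ^ q) (p : ℕ) [Fact p.Prime] [CharP K p]
    (hcen : Subgroup.center ↥(twistedD4 K q) = ⊥) :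
    ∃ f, H92.GG.Anti cs RGDTwD4.isCartan (Tad (DD K φ q)) (Xad (RGDTwD4.X φ q) (DD K φ q)) f := by
  obtain ⟨ω, -, h1, h2, h3⟩ := Tw.exists_om (H967.ThTw.twC4 hφ (D4Fixed.twisted_le_fix hK hφ)) TwQ.twH p
    RGDTwD4.isCartan
  obtain ⟨f, -, hf⟩ := (data_D4 cs hK hφ p hcen).anti h1 (fun z _ y hy => h2 z y hy) h3
  exact ⟨f, hf⟩

/-- **the row `³D₄(q)`, `q` even** -/
theorem rowB_twD4 (hq : IsPrimePow q) (hK : Fintype.card K = q ^ 3) [CharP K 2] {l : ℕ} (hl : l.Prime) (hl2 : l ≠ 2)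
    (hd : l ∣ Nat.card ↥(twistedD4 K q)) : H706.PB.RowB l ↥(twistedD4 K q) := by
  have : Fact (Nat.Prime 2) := ⟨Nat.prime_two⟩
  obtain ⟨φ, hφ⟩ := D4Fixed.exists_frob hq hK
  have hcen : Subgroup.center ↥(twistedD4 K q) = ⊥ := by
    obtain ⟨h1, h2⟩ := S1071.result (K := K) hq hK
    exact center_eq_bot h1 h2
  have : Finite CoxeterMatrix.G₂.Group :=
    finite_W (hp := RGDTwD4.hp) CoxeterMatrix.G₂.toCoxeterSystem RGDTwD4.isCartan RGDTwD4.foldData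
  obtain ⟨f, hf⟩ := anti_D4 CoxeterMatrix.G₂.toCoxeterSystem hK hφ 2 hcen
  exact H40.Ch.rowB_data (data_D4 CoxeterMatrix.G₂.toCoxeterSystem hK hφ 2 hcen)
    (H396.CommTab.commGen_D4 hK hφ) hf hl hl2 hd

end D4

end Cfsg.Agent.H928.Ad.TwRow
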