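import Cfsg.Agent.H928.Ad.TwD
import Cfsg.Agent.Nodes.RGDTwComE6

/-!
# The adjoint group of `²E₆(q)` (helper928, S4884)
-/

set_option autoImplicit false
set_option linter.unusedSectionVars false

namespace Cfsg.Agent.H928.Ad.TwE

open CoxeterSystem Cfsg.Agent.ChevalleyStructure.CoxeterGeom Cfsg.Agent.Tits.Roots Cfsg.Agent.Tits.Core
  Cfsg.Agent.Nodes.BNOf Cfsg.Agent.Nodes.RGDTwGen Cfsg.Agent.Nodes.RGDChev Cfsg.Agent.Nodes.RGDFold
  Cfsg.Agent.Nodes.RGDFoldSL Cfsg.Agent.Nodes.RGDTwE6 Cfsg.Agent.Nodes.RGDTwTab Cfsg.Agent.Nodes.RGDTwCoordE6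
  Cfsg.Agent.Nodes.RGDTwCoord Cfsg.Agent.Nodes.RGDTwComE6
open Cfsg.Lie Cfsg.Agent.ChevalleyStructure Cfsg.Agent.H70.RootCoeffTab Cfsg.Agent.H70.ChevDiag
open Cfsg.Agent.ChevalleyStructure.TwE6Basic (sg)

universe u

/-- the root coefficients -/
def mE (r i : ℕ) : ℤ := (dig ME6 6 r i : ℤ) - 8

theorem rootCoeff_mE : RootCoeff chevE6 mE :=
  rootCoeff_of_chk (M := ME6) (by decide +kernel) (by decide +kernel) (by decide +kernel)

theorem twH : Tw.TwH chevE6 J TwistedE6Sigma.rho TwistedE6Sigma.eps where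
  inv := by decide +kernel
  comm := by decide +kernel
  wneg := by decide +kernel
  rneg := by decide +kernel
  rlt := by decide +kernel
  eps := by decide +kernel

/-- the permutation of the nodes -/
def pi6 : Fin 6 → Fin 6 := ![5, 1, 4, 3, 2, 0]

theorem mE_rho : ∀ r < 72, ∀ j : Fin 6, mE (TwistedE6Sigma.rho r) (pi6 j) = mE r j := by decide +kernel

theorem pi6_pi6 : ∀ j : Fin 6, pi6 (pi6 j) = j := by decide

theorem heads : ∀ i : Fin 4, (cl chevE6 J O (sr i)).headD 0 = chevE6.simple ((![1, 3, 2, 0] : Fin 4 → ℕ) i) ∧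
    (cl chevE6 J O (sr i)).length = (![1, 1, 2, 2] : Fin 4 → ℕ) i := by decide +kernel

theorem twR {K : Type u} [Field K] {φ : K →+* K} : Tw.TwR chevE6 J O TwistedE6Sigma.rho φ := by
  intro c hc hc0
  have h0 : φ (c 0) = c 0 := by
    have := hc 0
    rw [(heads 0).2] at this
    exact this
  have h1 : φ (c 1) = c 1 := by
    have := hc 1
    rw [(heads 1).2] at this
    exact this
  have h2 : φ (φ (c 2)) = c 2 := by
    have := hc 2
    rw [(heads 2).2] at this
    exact this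
  have h3 : φ (φ (c 3)) = c 3 := by
    have := hc 3
    rw [(heads 3).2] at this
    exact this
  let u : Fin 4 → Kˣ := fun i => Units.mk0 (c i) (hc0 i)
  let φu : Kˣ →* Kˣ := Units.map φ.toMonoidHom
  let c' : Fin 6 → Kˣ := ![u 3, u 0, u 2, u 1, φu (u 2), φu (u 3)]
  have hφ : ∀ j : Fin 6, c' (pi6 j) = φu (c' j) := by
    have e0 : φu (u 0) = u 0 := Units.ext h0
    have e1 : φu (u 1) = u 1 := Units.ext h1
    have e2 : φu (φu (u 2)) = u 2 := Units.ext h2
    have e3 : φu (φu (u 3)) = u 3 := Units.ext h3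
    intro j
    fin_cases j
    · rfl
    · exact e0.symm
    · rfl
    · exact e1.symm
    · exact e2.symm
    · exact e3.symm
  have hD := hp.inList
  refine ⟨chi 6 mE c', isMul_chi (D := chevE6) hD rootCoeff_mE c', fun r hr => ?_, fun i => ?_⟩
  · have e : chi 6 mE c' (TwistedE6Sigma.rho r) = φu (chi 6 mE c' r) := by
      unfold chi
      rw [map_prod, ← Equiv.prod_comp (Equiv.ofBijective pi6
        (Function.Involutive.bijective pi6_pi6))]
      refine Finset.prod_congr rfl fun j _ => ?_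
      show c' (pi6 j) ^ mE (TwistedE6Sigma.rho r) (pi6 j) = φu (c' j ^ mE r j)
      rw [hφ, mE_rho r hr, map_zpow]
    rw [e]
    rfl
  · rw [(heads i).1]
    have h4 : ∀ j : Fin 6, chi 6 mE c' (chevE6.simple j) = c' j := fun j =>
      chi_simple (D := chevE6) hD rootCoeff_mE c' j
    fin_cases i
    · exact congrArg Units.val (h4 1)
    · exact congrArg Units.val (h4 3)
    · exact congrArg Units.val (h4 2)
    · exact congrArg Units.val (h4 0)

end Cfsg.Agent.H928.Ad.TwE
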