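import Cfsg.Agent.Nodes.RGDLib

/-!
# The frame of the adjoint group, abstractly (helper928, S4884)

* `enlarge` : a root group datum passes to a larger torus;
* `Sys cs h T n X K x` : coordinates `x z : K z → X z` of all root groups by fields, `T` acts by scalars, the `n i` by scalars
  and isomorphisms of fields;
* `Dg cs h x` : the group of all automorphisms acting by scalars on all root groups; it is abelian (`Dg.comm`), prime to `p`
  (`Dg.cop`), normalised by the `n i`;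
* `rgd_Dg` : the root group datum of `MulAut Y` with torus `Dg`; `rgd_of_le` : the same for `T ≤ D ≤ Dg`.
-/

set_option autoImplicit false
set_option linter.unusedSectionVars false

namespace Cfsg.Agent.H928.Ad

open CoxeterSystem Cfsg.Agent.ChevalleyStructure.CoxeterGeom Cfsg.Agent.Tits.Roots Cfsg.Agent.Tits.Core
  Cfsg.Agent.Tits.RootComb Cfsg.Agent.Nodes.Comb Cfsg.Agent.Nodes.Reps Cfsg.Agent.Nodes.BNOf Cfsg.Agent.Nodes.RGDLib

universe v

variable {I W : Type*} [Fintype I] [DecidableEq I] [Group W] {Y : Type*} [Group Y] {M : CoxeterMatrix I}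
  {cs : CoxeterSystem M W} {A : I → I → ℤ} {h : IsCartan M A} {p : ℕ} {T : Subgroup Y} {n : I → Y}
  {X : (I → ℤ) → Subgroup Y}

/-- a larger torus -/
theorem enlarge (R : RGD cs h p T n X) {T' : Subgroup Y} (hTT : T ≤ T')
    (hn : ∀ i, n i ∈ Subgroup.normalizer (T' : Set Y)) (hX : ∀ x, IsRoot cs h x → ∀ t ∈ T', cj t (X x) = X x)
    (hc : (Nat.card T').Coprime p) : RGD cs h p T' n X where
  nsys := ⟨hn, fun i j => hTT (R.nsys.rel i j)⟩
  conj := R.conj
  tor := hX
  comm := R.comm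
  rk1 := fun i u hu h1 => by
    obtain ⟨a, ha, t, ht, b, hb, e⟩ := R.rk1 i u hu h1
    exact ⟨a, ha, t, hTT ht, b, hb, e⟩
  pgrp := R.pgrp
  notp := R.notp
  tcop := hc

variable {K : (I → ℤ) → Type v} [∀ z, Field (K z)] {x : ∀ z, K z → Y}

/-- Coordinates of the root groups by fields. -/
structure Sys (cs : CoxeterSystem M W) (h : IsCartan M A) (T : Subgroup Y) (n : I → Y)
    (X : (I → ℤ) → Subgroup Y) (x : ∀ z, K z → Y) : Prop where
  mem : ∀ z, IsRoot cs h z → ∀ y, y ∈ X z ↔ ∃ a, x z a = y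
  inj : ∀ z, IsRoot cs h z → Function.Injective (x z)
  add : ∀ z, IsRoot cs h z → ∀ a b, x z (a + b) = x z a * x z b
  tor : ∀ z, IsRoot cs h z → ∀ t ∈ T, ∃ c : K z, c ≠ 0 ∧ ∀ a, t * x z a * t⁻¹ = x z (c * a)
  nact : ∀ i z, IsRoot cs h z → ∃ (σ : K z ≃+* K (rep cs h (cs.simple i) z)) (c : K (rep cs h (cs.simple i) z)),
    c ≠ 0 ∧ ∀ a, n i * x z a * (n i)⁻¹ = x (rep cs h (cs.simple i) z) (c * σ a)

/-- The automorphisms which act by scalars on all root groups. -/
def Dg (cs : CoxeterSystem M W) (h : IsCartan M A) (x : ∀ z, K z → Y) : Subgroup (MulAut Y) where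
  carrier := {β | ∀ z, IsRoot cs h z → ∃ c : K z, c ≠ 0 ∧ ∀ a, β (x z a) = x z (c * a)}
  one_mem' := fun z _ => ⟨1, one_ne_zero, fun a => by rw [one_mul]; rfl⟩
  mul_mem' := by
    intro β β' hβ hβ' z hz
    obtain ⟨c, hc, e⟩ := hβ z hz
    obtain ⟨c', hc', e'⟩ := hβ' z hz
    exact ⟨c * c', mul_ne_zero hc hc', fun a => by rw [MulAut.mul_apply, e', e, mul_assoc]⟩
  inv_mem' := by
    intro β hβ z hz
    obtain ⟨c, hc, e⟩ := hβ z hz
    refine ⟨c⁻¹, inv_ne_zero hc, fun a => ?_⟩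
    have h1 := e (c⁻¹ * a)
    rw [mul_inv_cancel_left₀ hc] at h1
    rw [← h1, MulAut.inv_apply_self]

theorem mem_Dg {β : MulAut Y} :
    β ∈ Dg cs h x ↔ ∀ z, IsRoot cs h z → ∃ c : K z, c ≠ 0 ∧ ∀ a, β (x z a) = x z (c * a) := Iff.rfl

theorem Sys.zero (S : Sys cs h T n X x) {z : I → ℤ} (hz : IsRoot cs h z) : x z 0 = 1 := by
  have := S.add z hz 0 0
  rwa [add_zero, left_eq_mul] at this

/-- two automorphisms which agree on the root elements are equal -/
theorem Sys.ext (S : Sys cs h T n X x) (hG : G1 cs h X = ⊤) {β β' : MulAut Y}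
    (e : ∀ z, IsRoot cs h z → ∀ a, β (x z a) = β' (x z a)) : β = β' := by
  have h1 : G1 cs h X ≤ (β.toMonoidHom).eqLocus β'.toMonoidHom := by
    refine RGD.Sup_le fun z hz y hy => ?_
    obtain ⟨a, rfl⟩ := (S.mem z hz y).1 hy
    exact e z hz a
  ext y
  exact h1 (hG ▸ Subgroup.mem_top y)

theorem Sys.comm (S : Sys cs h T n X x) (hG : G1 cs h X = ⊤) {β β' : MulAut Y} (hβ : β ∈ Dg cs h x)
    (hβ' : β' ∈ Dg cs h x) : β * β' = β' * β := by
  refine S.ext hG fun z hz a => ?_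
  obtain ⟨c, -, e⟩ := hβ z hz
  obtain ⟨c', -, e'⟩ := hβ' z hz
  rw [MulAut.mul_apply, MulAut.mul_apply, e', e, e, e', mul_left_comm]

theorem Sys.conj_mem (S : Sys cs h T n X x) {t : Y} (ht : t ∈ T) : MulAut.conj t ∈ Dg cs h x := by
  intro z hz
  obtain ⟨c, hc, e⟩ := S.tor z hz t ht
  exact ⟨c, hc, fun a => by rw [MulAut.conj_apply, e]⟩

/-- conjugates of root groups in `MulAut Y` -/
theorem cj_map_conj (β : MulAut Y) (P : Subgroup Y) (hP : ∀ y, β y ∈ P ↔ y ∈ P) :
    cj β (P.map MulAut.conj) = P.map MulAut.conj := by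
  have key : ∀ β : MulAut Y, (∀ y, β y ∈ P ↔ y ∈ P) → ∀ g ∈ P.map MulAut.conj, β * g * β⁻¹ ∈ P.map MulAut.conj := by
    rintro β hβ _ ⟨y, hy, rfl⟩
    refine ⟨β y, (hβ y).2 hy, ?_⟩
    ext w
    simp only [MulAut.conj_apply, MulAut.mul_apply, map_mul, map_inv, MulAut.apply_inv_self]
  ext g
  rw [mem_cj]
  constructor
  · intro hg
    have h1 := key β hP _ hg
    have h2 : β * (β⁻¹ * g * β) * β⁻¹ = g := by group
    rwa [h2] at h1
  · intro hg
    have h1 := key β⁻¹ (fun y => by rw [← hP (β⁻¹ y), MulAut.apply_inv_self]) _ hg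
    rwa [inv_inv] at h1

theorem Sys.fix (S : Sys cs h T n X x) {β : MulAut Y} (hβ : β ∈ Dg cs h x) {z : I → ℤ} (hz : IsRoot cs h z) (y : Y) :
    β y ∈ X z ↔ y ∈ X z := by
  have key : ∀ β ∈ Dg cs h x, ∀ y ∈ X z, β y ∈ X z := by
    intro β hβ y hy
    obtain ⟨a, rfl⟩ := (S.mem z hz y).1 hy
    obtain ⟨c, -, e⟩ := hβ z hz
    rw [e]
    exact (S.mem z hz _).2 ⟨_, rfl⟩
  refine ⟨fun hy => ?_, key β hβ y⟩
  have h1 := key β⁻¹ (inv_mem hβ) _ hy
  rwa [MulAut.inv_apply_self] at h1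

theorem Sys.conj_n_mem (S : Sys cs h T n X x) (i : I) {β : MulAut Y} (hβ : β ∈ Dg cs h x) :
    MulAut.conj (n i) * β * (MulAut.conj (n i))⁻¹ ∈ Dg cs h x := by
  intro z' hz'
  obtain ⟨z, hz, rfl⟩ : ∃ z, IsRoot cs h z ∧ z' = rep cs h (cs.simple i) z := by
    refine ⟨rep cs h (cs.simple i) z', hz'.act _, ?_⟩
    rw [← rep_mul_apply, cs.simple_mul_simple_self, map_one, Module.End.one_apply]
  obtain ⟨σ, c, hc, e⟩ := S.nact i z hz
  obtain ⟨d, hd, f⟩ := hβ z hz
  refine ⟨σ d, (map_ne_zero σ).2 hd, fun a' => ?_⟩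
  obtain ⟨a, rfl⟩ : ∃ a, c * σ a = a' := ⟨σ.symm (c⁻¹ * a'), by rw [RingEquiv.apply_symm_apply, mul_inv_cancel_left₀ hc]⟩
  have h1 : (MulAut.conj (n i))⁻¹ (x (rep cs h (cs.simple i) z) (c * σ a)) = x z a := by
    rw [← e a, ← MulAut.conj_apply, MulAut.inv_apply_self]
  rw [MulAut.mul_apply, MulAut.mul_apply, h1, f, MulAut.conj_apply, e, map_mul, mul_left_comm]

theorem Sys.n_norm (S : Sys cs h T n X x) (hN : NSys M T n) (i : I) :
    MulAut.conj (n i) ∈ Subgroup.normalizer (Dg cs h x : Set (MulAut Y)) := by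
  rw [Subgroup.mem_normalizer_iff]
  intro β
  refine ⟨fun hβ => S.conj_n_mem i hβ, fun hβ => ?_⟩
  have h1 := S.conj_n_mem i hβ
  have h2 : n i * n i ∈ T := by
    have := hN.rel i i
    rwa [M.diagonal, pow_one] at this
  have h3 := S.conj_mem h2
  rw [map_mul] at h3
  have h4 := mul_mem (mul_mem (inv_mem h3) h1) h3
  have h5 : (MulAut.conj (n i) * MulAut.conj (n i))⁻¹ * (MulAut.conj (n i) *
      (MulAut.conj (n i) * β * (MulAut.conj (n i))⁻¹) * (MulAut.conj (n i))⁻¹) *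
      (MulAut.conj (n i) * MulAut.conj (n i)) = β := by group
  rwa [h5] at h4

theorem char_p [Finite W] [hp : Fact p.Prime] (R : RGD cs h p T n X) (S : Sys cs h T n X x) {z : I → ℤ} (hz : IsRoot cs h z) :
    CharP (K z) p := by
  have h1 : x z 1 ∈ X z := (S.mem z hz _).2 ⟨_, rfl⟩
  obtain ⟨k, hk⟩ := R.pgrp' hz ⟨_, h1⟩
  have h2 : (x z 1) ^ p ^ k = 1 := congrArg Subtype.val hk
  have h3 : ∀ m : ℕ, x z (m : K z) = (x z 1) ^ m := by
    intro m
    induction m with
    | zero => rw [Nat.cast_zero, S.zero hz, pow_zero]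
    | succ m ih => rw [Nat.cast_succ, S.add z hz, ih, pow_succ]
  have h4 : ((p ^ k : ℕ) : K z) = 0 := by
    apply S.inj z hz
    rw [h3, h2, S.zero hz]
  rw [Nat.cast_pow] at h4
  exact (CharP.charP_iff_prime_eq_zero hp.out).2 (eq_zero_of_pow_eq_zero h4)

/-- the scalar group is prime to `p` -/
theorem Sys.cop [Finite W] [Finite Y] [hp : Fact p.Prime] (R : RGD cs h p T n X) (S : Sys cs h T n X x)
    (hG : G1 cs h X = ⊤) : (Nat.card (Dg cs h x)).Coprime p := by
  rw [Nat.coprime_comm, hp.out.coprime_iff_not_dvd]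
  intro hd
  obtain ⟨β, hβ⟩ := exists_prime_orderOf_dvd_card' p hd
  have h1 : (β : MulAut Y) = 1 := by
    refine S.ext hG fun z hz a => ?_
    have hch := char_p R S hz
    obtain ⟨c, hc, e⟩ := β.2 z hz
    have h2 : ∀ m : ℕ, ∀ a, ((β : MulAut Y) ^ m) (x z a) = x z (c ^ m * a) := by
      intro m
      induction m with
      | zero => intro a; rw [pow_zero, pow_zero, one_mul]; rfl
      | succ m ih => intro a; rw [pow_succ', pow_succ', MulAut.mul_apply, ih, e, mul_assoc]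
    have h3 : (β : MulAut Y) ^ p = 1 := by
      have := pow_orderOf_eq_one β
      rw [hβ] at this
      exact congrArg Subtype.val this
    have h4 : c ^ p = 1 := by
      have h5 := h2 p 1
      rw [h3, mul_one] at h5
      exact (S.inj z hz h5).symm
    have h5 : c = 1 := by
      have h6 : (c - 1) ^ p = 0 := by
        rw [sub_pow_char, h4, one_pow, sub_self]
      exact sub_eq_zero.1 (eq_zero_of_pow_eq_zero h6)
    rw [e, h5, one_mul]
    rfl
  have h2 : β = 1 := Subtype.ext h1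
  rw [h2, orderOf_one] at hβ
  exact hp.out.one_lt.ne hβ

/-- **the root group datum with a larger torus**: any group `D` of scalar automorphisms containing `T` and normalised by the
`n i` -/
theorem rgd_of_le [Finite W] [Finite Y] [hp : Fact p.Prime] (R : RGD cs h p T n X) (S : Sys cs h T n X x)
    (hG : G1 cs h X = ⊤) {D : Subgroup (MulAut Y)} (hD : D ≤ Dg cs h x) (hT : T.map MulAut.conj ≤ D)
    (hn : ∀ i, MulAut.conj (n i) ∈ Subgroup.normalizer (D : Set (MulAut Y))) :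
    RGD cs h p D (fun i => MulAut.conj (n i)) (fun z => (X z).map MulAut.conj) := by
  refine enlarge (rgd_map_of_ker_le_center R MulAut.conj ?_) hT hn (fun z hz t ht => ?_) ?_
  · intro y hy
    rw [MonoidHom.mem_ker] at hy
    rw [Subgroup.mem_center_iff]
    intro g
    have h1 : MulAut.conj y g = g := by rw [hy]; rfl
    rw [MulAut.conj_apply, mul_inv_eq_iff_eq_mul] at h1
    exact h1.symm
  · exact cj_map_conj t (X z) (S.fix (hD ht) hz)
  · exact Nat.Coprime.coprime_dvd_left (Subgroup.card_dvd_of_le hD) (S.cop R hG)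

theorem rgd_Dg [Finite W] [Finite Y] [hp : Fact p.Prime] (R : RGD cs h p T n X) (S : Sys cs h T n X x)
    (hG : G1 cs h X = ⊤) : RGD cs h p (Dg cs h x) (fun i => MulAut.conj (n i)) (fun z => (X z).map MulAut.conj) :=
  rgd_of_le R S hG le_rfl (by rintro _ ⟨t, ht, rfl⟩; exact S.conj_mem ht) (S.n_norm R.nsys)

end Cfsg.Agent.H928.Ad
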