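import Cfsg.Agent.H928.Ad.Grp

/-!
# Diagonal automorphisms with a character, one coordinate field (helper928, S4884)

* `Dm cs h x` : the automorphisms acting on the root group `z` by `χ z`, `χ (-z) = (χ z)⁻¹`;
* `Dm.norm` : normalised by the `n i`; `Dm.anti` : inverted by `ω`, if `ω (x z a) = x (-z) (c * a)`;
* `data_of` : `Data` for `Dm`.
-/

set_option autoImplicit false
set_option linter.unusedSectionVars false

namespace Cfsg.Agent.H928.Ad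

open CoxeterSystem Cfsg.Agent.ChevalleyStructure.CoxeterGeom Cfsg.Agent.Tits.Roots Cfsg.Agent.Tits.Core
  Cfsg.Agent.Tits.RootComb Cfsg.Agent.Nodes.Comb Cfsg.Agent.Nodes.Reps Cfsg.Agent.Nodes.BNOf Cfsg.Agent.Nodes.RGDLib
  Cfsg.Agent.Nodes.Bruhat

variable {I W : Type*} [Fintype I] [DecidableEq I] [Group W] {Y : Type*} [Group Y] {M : CoxeterMatrix I}
  {cs : CoxeterSystem M W} {A : I → I → ℤ} {h : IsCartan M A} {p : ℕ} {T : Subgroup Y} {n : I → Y}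
  {X : (I → ℤ) → Subgroup Y} {F : Type*} [Field F] {x : (I → ℤ) → F → Y}

/-- The automorphisms which act by a character on the root groups. -/
def Dm (cs : CoxeterSystem M W) (h : IsCartan M A) (x : (I → ℤ) → F → Y) : Subgroup (MulAut Y) where
  carrier := {β | ∃ χ : (I → ℤ) → F, ∀ z, IsRoot cs h z → χ z ≠ 0 ∧ χ (-z) = (χ z)⁻¹ ∧ ∀ a, β (x z a) = x z (χ z * a)}
  one_mem' := ⟨fun _ => 1, fun z _ => ⟨one_ne_zero, inv_one.symm, fun a => by rw [one_mul]; rfl⟩⟩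
  mul_mem' := by
    rintro β β' ⟨χ, hχ⟩ ⟨χ', hχ'⟩
    refine ⟨fun z => χ z * χ' z, fun z hz => ⟨mul_ne_zero (hχ z hz).1 (hχ' z hz).1, ?_, fun a => ?_⟩⟩
    · change χ (-z) * χ' (-z) = (χ z * χ' z)⁻¹
      rw [(hχ z hz).2.1, (hχ' z hz).2.1, mul_inv]
    · rw [MulAut.mul_apply, (hχ' z hz).2.2, (hχ z hz).2.2, mul_assoc]
  inv_mem' := by
    rintro β ⟨χ, hχ⟩
    refine ⟨fun z => (χ z)⁻¹, fun z hz => ⟨inv_ne_zero (hχ z hz).1, ?_, fun a => ?_⟩⟩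
    · change (χ (-z))⁻¹ = ((χ z)⁻¹)⁻¹
      rw [(hχ z hz).2.1]
    · have h1 := (hχ z hz).2.2 ((χ z)⁻¹ * a)
      rw [mul_inv_cancel_left₀ (hχ z hz).1] at h1
      rw [← h1, MulAut.inv_apply_self]

theorem mem_Dm {β : MulAut Y} : β ∈ Dm cs h x ↔ ∃ χ : (I → ℤ) → F, ∀ z, IsRoot cs h z →
    χ z ≠ 0 ∧ χ (-z) = (χ z)⁻¹ ∧ ∀ a, β (x z a) = x z (χ z * a) := Iff.rfl

theorem Dm_le : Dm cs h x ≤ Dg (K := fun _ => F) cs h x := by
  rintro β ⟨χ, hχ⟩ z hz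
  exact ⟨χ z, (hχ z hz).1, (hχ z hz).2.2⟩

theorem Dm_conj (hn : ∀ i z, IsRoot cs h z → ∃ c : F, c ≠ 0 ∧ ∀ a, n i * x z a * (n i)⁻¹ =
    x (rep cs h (cs.simple i) z) (c * a)) (i : I) {β : MulAut Y} (hβ : β ∈ Dm cs h x) :
    MulAut.conj (n i) * β * (MulAut.conj (n i))⁻¹ ∈ Dm cs h x := by
  obtain ⟨χ, hχ⟩ := hβ
  refine ⟨fun z => χ (rep cs h (cs.simple i) z), fun z' hz' => ?_⟩
  obtain ⟨z, hz, rfl⟩ : ∃ z, IsRoot cs h z ∧ z' = rep cs h (cs.simple i) z := by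
    refine ⟨rep cs h (cs.simple i) z', hz'.act _, ?_⟩
    rw [← rep_mul_apply, cs.simple_mul_simple_self, map_one, Module.End.one_apply]
  have e0 : rep cs h (cs.simple i) (rep cs h (cs.simple i) z) = z := by
    rw [← rep_mul_apply, cs.simple_mul_simple_self, map_one, Module.End.one_apply]
  obtain ⟨c, hc, e⟩ := hn i z hz
  obtain ⟨h1, h2, h3⟩ := hχ z hz
  refine ⟨by dsimp only; rw [e0]; exact h1, by dsimp only; rw [map_neg, e0]; exact h2, fun a' => ?_⟩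
  dsimp only
  obtain ⟨a, rfl⟩ : ∃ a, c * a = a' := ⟨c⁻¹ * a', mul_inv_cancel_left₀ hc _⟩
  have h4 : (MulAut.conj (n i))⁻¹ (x (rep cs h (cs.simple i) z) (c * a)) = x z a := by
    rw [← e a, ← MulAut.conj_apply, MulAut.inv_apply_self]
  rw [e0, MulAut.mul_apply, MulAut.mul_apply, h4, h3, MulAut.conj_apply, e, mul_left_comm]

theorem Dm_norm (hn : ∀ i z, IsRoot cs h z → ∃ c : F, c ≠ 0 ∧ ∀ a, n i * x z a * (n i)⁻¹ =
    x (rep cs h (cs.simple i) z) (c * a)) (hN : NSys M T n) (hT : ∀ t ∈ T, MulAut.conj t ∈ Dm cs h x) (i : I) :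
    MulAut.conj (n i) ∈ Subgroup.normalizer (Dm cs h x : Set (MulAut Y)) := by
  rw [Subgroup.mem_normalizer_iff]
  intro β
  refine ⟨fun hβ => Dm_conj hn i hβ, fun hβ => ?_⟩
  have h1 := Dm_conj hn i hβ
  have h2 : n i * n i ∈ T := by
    have := hN.rel i i
    rwa [M.diagonal, pow_one] at this
  have h3 := hT _ h2
  rw [map_mul] at h3
  have h4 := mul_mem (mul_mem (inv_mem h3) h1) h3
  have h5 : (MulAut.conj (n i) * MulAut.conj (n i))⁻¹ * (MulAut.conj (n i) *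
      (MulAut.conj (n i) * β * (MulAut.conj (n i))⁻¹) * (MulAut.conj (n i))⁻¹) *
      (MulAut.conj (n i) * MulAut.conj (n i)) = β := by group
  rwa [h5] at h4

/-- **`ω` inverts `Dm`.** -/
theorem Dm_inv (S : Sys (K := fun _ => F) cs h T n X x) (hG : G1 cs h X = ⊤) {ω : MulAut Y}
    (hω : ∀ z, IsRoot cs h z → ∃ c : F, c ≠ 0 ∧ ∀ a, ω (x z a) = x (-z) (c * a)) {β : MulAut Y}
    (hβ : β ∈ Dm cs h x) : ω * β * ω⁻¹ = β⁻¹ := by
  refine S.ext hG fun z hz a => ?_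
  obtain ⟨χ, hχ⟩ := hβ
  obtain ⟨c, hc, e⟩ := hω (-z) hz.neg
  rw [neg_neg] at e
  obtain ⟨h1, h2, h3⟩ := hχ z hz
  obtain ⟨h1', h2', h3'⟩ := hχ (-z) hz.neg
  obtain ⟨b, rfl⟩ : ∃ b, c * b = a := ⟨c⁻¹ * a, mul_inv_cancel_left₀ hc _⟩
  have h4 : ω⁻¹ (x z (c * b)) = x (-z) b := by rw [← e, MulAut.inv_apply_self]
  have h5 : β⁻¹ (x z (c * b)) = x z ((χ z)⁻¹ * (c * b)) := by
    have h6 := h3 ((χ z)⁻¹ * (c * b))
    rw [mul_inv_cancel_left₀ h1] at h6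
    rw [← h6, MulAut.inv_apply_self]
  rw [MulAut.mul_apply, MulAut.mul_apply, h4, h3', h5, h2, e, mul_left_comm]

end Cfsg.Agent.H928.Ad
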