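import Cfsg.Agent.H928.Ad.Grp
import Cfsg.Agent.H928.Ad.Chev
import Cfsg.Agent.Nodes.RGDTwCoord

/-!
# The adjoint groups of the twisted groups (helper928, S4884)

`G ≤ GL` a twisted group (`TwC`).

* `Dt` : the elements of `GL` acting on the root groups of the Chevalley group by a character `χ` with `χ (ρ r) = φ (χ r)`;
* `Dw` : their automorphisms of `G`; `TwH` : the tabulated hypotheses; `data` : `Data` for `Dw`.
-/

set_option autoImplicit false
set_option linter.unusedSectionVars false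

namespace Cfsg.Agent.H928.Ad.Tw

open CoxeterSystem Cfsg.Agent.ChevalleyStructure.CoxeterGeom Cfsg.Agent.Tits.Roots Cfsg.Agent.Tits.Core
  Cfsg.Agent.Tits.RootComb Cfsg.Agent.Nodes.Comb Cfsg.Agent.Nodes.Reps Cfsg.Agent.Nodes.BNOf Cfsg.Agent.Nodes.RGDLib
  Cfsg.Agent.Nodes.Bruhat Cfsg.Agent.Nodes.RGDChev Cfsg.Agent.Nodes.RGDFold Cfsg.Agent.Nodes.RGDFoldSL
  Cfsg.Agent.Nodes.RGDTwGen Cfsg.Agent.Nodes.RGDTwCoord
open Cfsg.Lie Cfsg.Agent.ChevalleyStructure Cfsg.Agent.ChevalleyStructure.Elts Cfsg.Agent.ChevalleyStructure.TwistedU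
  Cfsg.Agent.ChevalleyStructure.TwistedFix Cfsg.Agent.ChevalleyStructure.RootVecTab

universe u

variable {D : ChevalleyDatum} {l : ℕ} {M' : CoxeterMatrix (Fin l)} {hp : IsType D l M'} {K : Type u} [Field K]
  {m : ℕ} {M : CoxeterMatrix (Fin m)} {W : Type*} [Group W] {cs : CoxeterSystem M W}
  {A : Fin m → Fin m → ℤ} {h : IsCartan M A}
  {J : Fin m → List (Fin l)} {L : List (List ℕ)} {σ : GL D.Idx K →* GL D.Idx K} {ρ ρ' : ℕ → ℕ}
    {f : ℕ → K → K} {G : Subgroup (GL D.Idx K)} {φ : K →+* K} {ε δ : ℕ → ℤ} {O : List (List ℕ)}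
    {dg : ℕ → ℕ → ℕ}

/-- `g` acts by the character `χ` -/
structure Act (hp : IsType D l M') (ρ : ℕ → ℕ) (φ : K →+* K) (g : GL D.Idx K) (χ : ℕ → K) : Prop where
  ne : ∀ r, r < D.nroots → χ r ≠ 0
  neg : ∀ r, r < D.nroots → χ (D.neg r) = (χ r)⁻¹
  rho : ∀ r, r < D.nroots → χ (ρ r) = φ (χ r)
  act : ∀ r, r < D.nroots → ∀ t, g * xG hp.inList r t * g⁻¹ = xG hp.inList r (χ r * t)

/-- The elements of `GL` acting on the root groups by a character compatible with `ρ`, `φ`. -/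
def Dt (hp : IsType D l M') (ρ : ℕ → ℕ) (φ : K →+* K) : Subgroup (GL D.Idx K) where
  carrier := {g | ∃ χ : ℕ → K, Act hp ρ φ g χ}
  one_mem' := ⟨fun _ => 1, fun _ _ => one_ne_zero, fun _ _ => inv_one.symm, fun _ _ => (map_one φ).symm,
    fun _ _ t => by rw [one_mul, inv_one, mul_one, one_mul]⟩
  mul_mem' := by
    rintro g g' ⟨χ, H⟩ ⟨χ', H'⟩
    refine ⟨fun r => χ r * χ' r, fun r hr => mul_ne_zero (H.ne r hr) (H'.ne r hr), fun r hr => ?_, fun r hr => ?_,
      fun r hr t => ?_⟩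
    · rw [H.neg r hr, H'.neg r hr, mul_inv]
    · rw [H.rho r hr, H'.rho r hr, map_mul]
    · have e : g * g' * xG hp.inList r t * (g * g')⁻¹ = g * (g' * xG hp.inList r t * g'⁻¹) * g⁻¹ := by group
      rw [e, H'.act r hr, H.act r hr, mul_assoc]
  inv_mem' := by
    rintro g ⟨χ, H⟩
    refine ⟨fun r => (χ r)⁻¹, fun r hr => inv_ne_zero (H.ne r hr), fun r hr => ?_, fun r hr => ?_, fun r hr t => ?_⟩
    · rw [H.neg r hr]
    · rw [H.rho r hr, map_inv₀]
    · have h1 := H.act r hr ((χ r)⁻¹ * t)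
      rw [mul_inv_cancel_left₀ (H.ne r hr)] at h1
      rw [← h1]; group

theorem mem_Dt {g : GL D.Idx K} : g ∈ Dt hp ρ φ ↔ ∃ χ : ℕ → K, Act hp ρ φ g χ := Iff.rfl

/-- the action on the twisted products -/
theorem act_yv {g : GL D.Idx K} {χ : ℕ → K} (H : Act hp ρ φ g χ) {w : ℕ} : ∀ (o : List ℕ) (r : ℕ)
    (_ : ∀ s ∈ r :: o, s < D.nroots) (_ : (r :: o).map ρ = o ++ [w]) (a : K),
    g * yv (xs hp δ) φ (r :: o) a * g⁻¹ = yv (xs hp δ) φ (r :: o) (χ r * a) ∧ φ^[(r :: o).length] (χ r) = χ w := by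
  have hx : ∀ r, r < D.nroots → ∀ t, g * xs hp δ r t * g⁻¹ = xs hp δ r (χ r * t) := by
    intro r hr t
    unfold xs
    rw [H.act r hr, mul_left_comm]
  intro o
  induction o with
  | nil =>
    intro r hr hw a
    have hr0 := hr r (List.mem_cons_self)
    rw [List.map_cons, List.map_nil, List.nil_append, List.cons.injEq] at hw
    refine ⟨?_, ?_⟩
    · show g * (xs hp δ r a * 1) * g⁻¹ = xs hp δ r (χ r * a) * 1
      rw [mul_one, mul_one, hx r hr0]
    · show φ (χ r) = χ w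
      rw [← hw.1, H.rho r hr0]
  | cons s o ih =>
    intro r hr hw a
    have hr0 := hr r (List.mem_cons_self)
    rw [List.map_cons, List.cons_append, List.cons.injEq] at hw
    obtain ⟨h1, h2⟩ := ih s (fun s' hs' => hr s' (List.mem_cons_of_mem _ hs')) hw.2 (φ a)
    have h3 : χ s = φ (χ r) := by rw [← hw.1, H.rho r hr0]
    refine ⟨?_, ?_⟩
    · show g * (xs hp δ r a * yv (xs hp δ) φ (s :: o) (φ a)) * g⁻¹ =
        xs hp δ r (χ r * a) * yv (xs hp δ) φ (s :: o) (φ (χ r * a))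
      rw [map_mul, ← h3, ← h1, ← hx r hr0]
      group
    · rw [List.length_cons, Function.iterate_succ_apply, ← h3]
      exact h2

variable (T : TwC hp K M A J L σ ρ ρ' f G φ ε δ O dg)

include T

theorem act_Y {g : GL D.Idx K} {χ : ℕ → K} (H : Act hp ρ φ g χ) {z : Fin m → ℤ} (hz : IsRoot cs h z) :
    Ok D J O φ z (χ ((cl D J O z).headD 0)) ∧ ∀ a, g * Y hp J φ δ O z a * g⁻¹ =
      Y hp J φ δ O z (χ ((cl D J O z).headD 0) * a) := by
  obtain ⟨ho, -, -⟩ := T.root hz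
  obtain ⟨o', e⟩ := T.head hz
  obtain ⟨r, hr⟩ : ∃ r, r = (cl D J O z).headD 0 := ⟨_, rfl⟩
  rw [← hr] at e ⊢
  have hlt : ∀ s ∈ r :: o', s < D.nroots := by
    rw [← e]; exact T.CD.lt _ ho
  have hrot : (r :: o').map ρ = o' ++ [r] := by
    have h1 := T.CD.rot _ ho
    rw [e] at h1
    exact rot_cons h1
  unfold Ok Y
  rw [e]
  exact ⟨(act_yv (δ := δ) H o' r hlt hrot 0).2, fun a => (act_yv H o' r hlt hrot a).1⟩

/-- `Dt` normalises the root groups -/
theorem conj_R {g : GL D.Idx K} (hg : g ∈ Dt hp ρ φ) {z : Fin m → ℤ} (hz : IsRoot cs h z) {y : GL D.Idx K}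
    (hy : y ∈ R D hp K J σ z) : g * y * g⁻¹ ∈ R D hp K J σ z := by
  obtain ⟨χ, H⟩ := hg
  obtain ⟨h1, h2⟩ := act_Y T H hz
  obtain ⟨a, ha, rfl⟩ := (T.mem_R hz y).1 hy
  rw [h2]
  exact (T.mem_R hz _).2 ⟨_, Ok.mul h1 ha, rfl⟩

/-- `Dt` normalises `G` -/
theorem conj_G [Finite K] (p : ℕ) [Fact p.Prime] [CharP K p] {g : GL D.Idx K} (hg : g ∈ Dt hp ρ φ) {y : GL D.Idx K}
    (hy : y ∈ G) (h : IsCartan M A) : g * y * g⁻¹ ∈ G := by
  have h1 : G ≤ G.comap (MulAut.conj g).toMonoidHom := by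
    refine T.FG.gen.trans (iSup_le fun i => sup_le (fun u hu => ?_) (fun u hu => ?_))
    · exact R_le M.toCoxeterSystem h T.FD T.FG p (isRoot_sr _ h i)
        (conj_R (cs := M.toCoxeterSystem) (h := h) T hg (isRoot_sr _ h i) hu)
    · exact R_le M.toCoxeterSystem h T.FD T.FG p (isRoot_sr _ h i).neg
        (conj_R (cs := M.toCoxeterSystem) (h := h) T hg (isRoot_sr _ h i).neg hu)
  exact h1 hy

omit T in
/-- The automorphisms of `G` given by `Dt`. -/
def Dw (hp : IsType D l M') (ρ : ℕ → ℕ) (φ : K →+* K) (G : Subgroup (GL D.Idx K)) : Subgroup (MulAut ↥G) where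
  carrier := {β | ∃ g ∈ Dt hp ρ φ, ∀ y : ↥G, ((β y : ↥G) : GL D.Idx K) = g * y * g⁻¹}
  one_mem' := ⟨1, one_mem _, fun y => by rw [one_mul, inv_one, mul_one]; rfl⟩
  mul_mem' := by
    rintro β β' ⟨g, hg, e⟩ ⟨g', hg', e'⟩
    refine ⟨g * g', mul_mem hg hg', fun y => ?_⟩
    rw [MulAut.mul_apply, e, e']
    group
  inv_mem' := by
    rintro β ⟨g, hg, e⟩
    refine ⟨g⁻¹, inv_mem hg, fun y => ?_⟩
    have h1 := e (β⁻¹ y)
    rw [MulAut.apply_inv_self] at h1
    rw [h1]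
    group

/-- automorphisms given by elements of `Dt` -/
theorem exists_Dw [Finite K] (p : ℕ) [Fact p.Prime] [CharP K p] (h : IsCartan M A) {g : GL D.Idx K}
    (hg : g ∈ Dt hp ρ φ) : ∃ β ∈ Dw hp ρ φ G, ∀ y : ↥G, ((β y : ↥G) : GL D.Idx K) = g * y * g⁻¹ := by
  let β : MulAut ↥G :=
    { toFun := fun y => ⟨g * y * g⁻¹, conj_G T p hg y.2 h⟩
      invFun := fun y => ⟨g⁻¹ * y * g⁻¹⁻¹, conj_G T p (inv_mem hg) y.2 h⟩
      left_inv := fun y => Subtype.ext (by
        show g⁻¹ * (g * y * g⁻¹) * g⁻¹⁻¹ = y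
        group)
      right_inv := fun y => Subtype.ext (by
        show g * (g⁻¹ * y * g⁻¹⁻¹) * g⁻¹ = y
        group)
      map_mul' := fun y z => Subtype.ext (by
        show g * ((y : GL D.Idx K) * z) * g⁻¹ = (g * y * g⁻¹) * (g * z * g⁻¹)
        group) }
  exact ⟨β, ⟨g, hg, fun y => rfl⟩, fun y => rfl⟩

/-- the coordinate fields -/
abbrev KK (K : Type u) [Field K] (φ : K →+* K) (D : ChevalleyDatum) {l : ℕ} {m : ℕ} (J : Fin m → List (Fin l))
    (O : List (List ℕ)) (z : Fin m → ℤ) : Type u := Fx φ (cl D J O z).length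

/-- the root elements -/
noncomputable abbrev xx (hp : IsType D l M') (K : Type u) [Field K] (J : Fin m → List (Fin l)) (φ : K →+* K)
    (δ : ℕ → ℤ) (O : List (List ℕ)) (G : Subgroup (GL D.Idx K)) (z : Fin m → ℤ) (a : KK K φ D J O z) : ↥G :=
  x hp J φ δ O G z (a : K)

theorem length_eq (i : Fin m) {z : Fin m → ℤ} (hz : IsRoot cs h z) :
    (cl D J O (rep cs h (cs.simple i) z)).length = (cl D J O z).length := by
  obtain ⟨ho, hV, -⟩ := T.root hz
  have h3 := (T.CD.perm _ ho i).length_eq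
  rw [hV, List.length_map] at h3
  rw [rep_refl, ← h3]

variable (cs h)

/-- **the coordinates of the twisted group** -/
theorem sys [Finite K] (p : ℕ) [Fact p.Prime] [CharP K p] :
    Sys (K := KK K φ D J O) cs h ((D.diagonalSubgroup K ⊓ G).subgroupOf G)
      (fun i => (⟨nI hp K (J i), T.FG.nG i⟩ : ↥G)) (fun z => (R D hp K J σ z).subgroupOf G)
      (xx hp K J φ δ O G) where
  mem z hz y := by
    rw [T.mem_X cs h p hz]
    constructor
    · rintro ⟨a, ha, e⟩
      exact ⟨⟨a, mem_Fx.2 ha⟩, e⟩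
    · rintro ⟨a, e⟩
      exact ⟨a, mem_Fx.1 a.2, e⟩
  inj z hz a b hab := Subtype.ext (T.x_inj cs h p hz (mem_Fx.1 a.2) (mem_Fx.1 b.2) hab)
  add z hz a b := T.x_add cs h p hz (mem_Fx.1 a.2) (mem_Fx.1 b.2)
  tor z hz t ht := by
    obtain ⟨χ, h1, h2, h3⟩ := T.tor_x cs h p ht hz
    exact ⟨⟨χ, mem_Fx.2 h2⟩, fun h4 => h1 (congrArg Subtype.val h4), fun a => h3 a (mem_Fx.1 a.2)⟩
  nact i z hz := by
    obtain ⟨η, h1, h2⟩ := T.conj_x cs h p i hz
    have hlen := length_eq T i hz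
    have hη : ∀ k : ℕ, φ^[k] η = η := by
      intro k
      induction k with
      | zero => rfl
      | succ k ih => rw [Function.iterate_succ_apply, h1.fix, ih]
    have hinj : Function.Injective (φ^[ex D J A O i z] : K → K) := φ.injective.iterate _
    have hok : ∀ a : KK K φ D J O z, φ^[(cl D J O (rep cs h (cs.simple i) z)).length]
        (φ^[ex D J A O i z] (a : K)) = φ^[ex D J A O i z] (a : K) := by
      intro a
      rw [hlen, ← Function.iterate_add_apply, add_comm, Function.iterate_add_apply]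
      congr 1
      exact mem_Fx.1 a.2
    let σ' : KK K φ D J O z →+* KK K φ D J O (rep cs h (cs.simple i) z) :=
      { toFun := fun a => ⟨φ^[ex D J A O i z] (a : K), mem_Fx.2 (hok a)⟩
        map_one' := Subtype.ext (iterate_map_one φ _)
        map_mul' := fun a b => Subtype.ext (iterate_map_mul φ _ _ _)
        map_zero' := Subtype.ext (iterate_map_zero φ _)
        map_add' := fun a b => Subtype.ext (iterate_map_add φ _ _ _) }
    have hbij : Function.Bijective σ' := by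
      have h3 : Function.Injective σ' := σ'.injective
      refine ⟨h3, ?_⟩
      have h4 : Nat.card (KK K φ D J O z) = Nat.card (KK K φ D J O (rep cs h (cs.simple i) z)) := by
        unfold KK
        rw [hlen]
      exact (Function.Injective.bijective_of_nat_card_le h3 h4.ge).2
    refine ⟨RingEquiv.ofBijective σ' hbij, ⟨η, mem_Fx.2 (hη _)⟩, fun h4 => h1.ne_zero (congrArg Subtype.val h4),
      fun a => ?_⟩
    exact (h2 a (mem_Fx.1 a.2)).2

end Cfsg.Agent.H928.Ad.Tw
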