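import Cfsg.Agent.H928.Ad.TwC

/-!
# The adjoint groups of the twisted groups: `Data` and the anti-automorphism (helper928, S4884)

* `TwH` : tabulated facts; `TwR` : the diagonal elements for all tuples of scalars;
* `data` : `Data` for `Dw`; `exists_om` : the involution.
-/

set_option autoImplicit false
set_option linter.unusedSectionVars false

namespace Cfsg.Agent.H928.Ad.Tw

open CoxeterSystem Cfsg.Agent.ChevalleyStructure.CoxeterGeom Cfsg.Agent.Tits.Roots Cfsg.Agent.Tits.Core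
  Cfsg.Agent.Tits.RootComb Cfsg.Agent.Nodes.Comb Cfsg.Agent.Nodes.Reps Cfsg.Agent.Nodes.BNOf Cfsg.Agent.Nodes.RGDLib
  Cfsg.Agent.Nodes.Bruhat Cfsg.Agent.Nodes.RGDChev Cfsg.Agent.Nodes.RGDFold Cfsg.Agent.Nodes.RGDFoldSL
  Cfsg.Agent.Nodes.RGDTwGen Cfsg.Agent.Nodes.RGDTwCoord
open Cfsg.Lie Cfsg.Agent.ChevalleyStructure Cfsg.Agent.ChevalleyStructure.Elts Cfsg.Agent.ChevalleyStructure.TwistedU
  Cfsg.Agent.ChevalleyStructure.TwistedFix Cfsg.Agent.ChevalleyStructure.RootVecTab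

universe u

variable {D : ChevalleyDatum} {l : ℕ} {M' : CoxeterMatrix (Fin l)} {hp : IsType D l M'} {K : Type u} [Field K]
  {m : ℕ} {M : CoxeterMatrix (Fin m)} {W : Type*} [Group W] {cs : CoxeterSystem M W}
  {A : Fin m → Fin m → ℤ} {h : IsCartan M A}
  {J : Fin m → List (Fin l)} {L : List (List ℕ)} {σ : GL D.Idx K →* GL D.Idx K} {ρ ρ' : ℕ → ℕ}
    {f : ℕ → K → K} {G : Subgroup (GL D.Idx K)} {φ : K →+* K} {ε δ : ℕ → ℤ} {O : List (List ℕ)}
    {dg : ℕ → ℕ → ℕ}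

/-- the tabulated facts -/
structure TwH (D : ChevalleyDatum) {l m : ℕ} (J : Fin m → List (Fin l)) (ρ : ℕ → ℕ) (ε : ℕ → ℤ) : Prop where
  inv : ∀ i, ∀ r < D.nroots, wp D (J i) (wp D (J i) r) = r
  comm : ∀ i, ∀ r < D.nroots, wp D (J i) (ρ r) = ρ (wp D (J i) r)
  wneg : ∀ i, ∀ r < D.nroots, wp D (J i) (D.neg r) = D.neg (wp D (J i) r)
  rneg : ∀ r < D.nroots, ρ (D.neg r) = D.neg (ρ r)
  rlt : ∀ r < D.nroots, ρ r < D.nroots
  eps : ∀ r < D.nroots, ε (D.neg r) = ε r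

/-- the tuples of scalars -/
def TwR (D : ChevalleyDatum) {l m : ℕ} (J : Fin m → List (Fin l)) (O : List (List ℕ)) (ρ : ℕ → ℕ) {K : Type u} [Field K]
    (φ : K →+* K) : Prop :=
  ∀ c : Fin m → K, (∀ i, φ^[(cl D J O (sr i)).length] (c i) = c i) → (∀ i, c i ≠ 0) →
    ∃ χ : ℕ → Kˣ, H70.ChevDiag.IsMul D χ ∧ (∀ r < D.nroots, (χ (ρ r) : K) = φ (χ r)) ∧
      ∀ i, (χ ((cl D J O (sr i)).headD 0) : K) = c i

variable (T : TwC hp K M A J L σ ρ ρ' f G φ ε δ O dg) (H : TwH D J ρ ε)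

/-- conjugation by the reflections -/
theorem n_Dt (H : TwH D J ρ ε) (i : Fin m) {g : GL D.Idx K} (hg : g ∈ Dt hp ρ φ) :
    nI hp K (J i) * g * (nI hp K (J i))⁻¹ ∈ Dt hp ρ φ := by
  obtain ⟨χ, hχ⟩ := hg
  have hlt : ∀ r < D.nroots, wp D (J i) r < D.nroots := fun r hr => wp_lt hp (J i) hr
  refine ⟨fun r => χ (wp D (J i) r), fun r hr => hχ.ne _ (hlt r hr), fun r hr => ?_, fun r hr => ?_,
    fun r hr t => ?_⟩
  · show χ (wp D (J i) (D.neg r)) = (χ (wp D (J i) r))⁻¹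
    rw [H.wneg i r hr, hχ.neg _ (hlt r hr)]
  · show χ (wp D (J i) (ρ r)) = φ (χ (wp D (J i) r))
    rw [H.comm i r hr, hχ.rho _ (hlt r hr)]
  · obtain ⟨η, h1, h2⟩ := conj_xG (K := K) (hp := hp) (J i) (hlt r hr)
    rw [H.inv i r hr] at h2
    have h3 : ∀ u, xG hp.inList r u = nI hp K (J i) * xG hp.inList (wp D (J i) r) (η * u) * (nI hp K (J i))⁻¹ := by
      intro u
      rw [h2, ← mul_assoc, h1.mul_self, one_mul]
    have h4 : nI hp K (J i) * g * (nI hp K (J i))⁻¹ * xG hp.inList r t * (nI hp K (J i) * g * (nI hp K (J i))⁻¹)⁻¹ =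
        nI hp K (J i) * (g * xG hp.inList (wp D (J i) r) (η * t) * g⁻¹) * (nI hp K (J i))⁻¹ := by
      rw [h3 t]; group
    rw [h4, hχ.act _ (hlt r hr), h3, mul_left_comm]

include T H in
/-- the torus -/
theorem tor_Dt {t : GL D.Idx K} (ht : t ∈ D.diagonalSubgroup K) (htG : t ∈ G) : t ∈ Dt hp ρ φ := by
  obtain ⟨χ, hχ⟩ := Chev.tor_char hp ht
  have hσ : σ t = t := T.FG.G_le htG
  have hx : ∀ r, r < D.nroots → ∀ u, t * xs hp δ r u * t⁻¹ = xs hp δ r (χ r * u) := by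
    intro r hr u
    unfold xs
    rw [(hχ r hr).2.2, mul_left_comm]
  refine ⟨χ, fun r hr => (hχ r hr).1, fun r hr => (hχ r hr).2.1, fun r hr => ?_, fun r hr => (hχ r hr).2.2⟩
  have h1 := congrArg σ (hx r hr 1)
  rw [map_mul, map_mul, map_inv, hσ, T.sig_xs hr, T.sig_xs hr, map_one, hx _ (H.rlt r hr), mul_one, mul_one] at h1
  have h2 := xG_injective hp.inList (H.rlt r hr) h1
  exact mul_left_cancel₀ (sg_cast (T.CD.dsq _ (H.rlt r hr))).ne_zero h2

include T in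
/-- scalar action -/
theorem Dw_le (cs : CoxeterSystem M W) (h : IsCartan M A) [Finite K] (p : ℕ) [Fact p.Prime] [CharP K p] :
    Dw hp ρ φ G ≤ Dg (K := KK K φ D J O) cs h (xx hp K J φ δ O G) := by
  rintro β ⟨g, ⟨χ, hχ⟩, e⟩ z hz
  obtain ⟨h1, h2⟩ := act_Y T hχ hz
  obtain ⟨ho, -, -⟩ := T.root hz
  have hlt : (cl D J O z).headD 0 < D.nroots := T.CD.lt _ ho _ (by
    obtain ⟨o', e⟩ := T.head hz
    have : (cl D J O z).headD 0 ∈ (cl D J O z).headD 0 :: o' := List.mem_cons_self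
    rwa [← e] at this)
  refine ⟨⟨χ ((cl D J O z).headD 0), mem_Fx.2 h1⟩, fun h3 => hχ.ne _ hlt (congrArg Subtype.val h3), fun a => ?_⟩
  apply Subtype.ext
  rw [e]
  unfold xx
  rw [T.coe_x cs h p hz (mem_Fx.1 a.2), h2]
  exact (T.coe_x cs h p hz (Ok.mul h1 (mem_Fx.1 a.2))).symm

include T H in
/-- **the hypotheses for the adjoint group of a twisted group** -/
theorem data (cs : CoxeterSystem M W) (h : IsCartan M A) [Finite K] (p : ℕ) [Fact p.Prime] [CharP K p]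
    (hcen : Subgroup.center ↥G = ⊥) (hR : TwR D J O ρ φ) :
    Data (K := KK K φ D J O) cs h p ((D.diagonalSubgroup K ⊓ G).subgroupOf G)
      (fun i => (⟨nI hp K (J i), T.FG.nG i⟩ : ↥G)) (fun z => (R D hp K J σ z).subgroupOf G)
      (xx hp K J φ δ O G) (Dw hp ρ φ G) where
  rgd := rgd cs h T.FD T.FG p
  sys := sys cs h T p
  g1 := G1_eq_top cs h T.FD T.FG p
  cen := hcen
  le := Dw_le T cs h p
  tor t ht := by
    rw [Subgroup.mem_subgroupOf] at ht
    exact ⟨t, tor_Dt T H ht.1 ht.2, fun y => rfl⟩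
  norm i := by
    have key : ∀ β ∈ Dw hp ρ φ G, MulAut.conj (⟨nI hp K (J i), T.FG.nG i⟩ : ↥G) * β *
        (MulAut.conj (⟨nI hp K (J i), T.FG.nG i⟩ : ↥G))⁻¹ ∈ Dw hp ρ φ G := by
      rintro β ⟨g, hg, e⟩
      refine ⟨_, n_Dt H i hg, fun y => ?_⟩
      rw [MulAut.mul_apply, MulAut.mul_apply, MulAut.conj_apply, MulAut.conj_inv_apply, Subgroup.coe_mul,
        Subgroup.coe_mul, e, Subgroup.coe_mul, Subgroup.coe_mul, Subgroup.coe_inv]
      group
    have htor : MulAut.conj ((⟨nI hp K (J i), T.FG.nG i⟩ : ↥G) * ⟨nI hp K (J i), T.FG.nG i⟩) ∈ Dw hp ρ φ G := by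
      have h2 := (rgd cs h T.FD T.FG p).nsys.rel i i
      rw [M.diagonal, pow_one, Subgroup.mem_subgroupOf] at h2
      exact ⟨_, tor_Dt T H h2.1 h2.2, fun y => rfl⟩
    rw [map_mul] at htor
    rw [Subgroup.mem_normalizer_iff]
    intro β
    refine ⟨fun hβ => key β hβ, fun hβ => ?_⟩
    have h4 := mul_mem (mul_mem (inv_mem htor) (key _ hβ)) htor
    generalize MulAut.conj (⟨nI hp K (J i), T.FG.nG i⟩ : ↥G) = c at h4
    have h5 : (c * c)⁻¹ * (c * (c * β * c⁻¹) * c⁻¹) * (c * c) = β := by group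
    rwa [h5] at h4
  full c hc := by
    obtain ⟨χ, h1, h2, h3⟩ := hR (fun i => (c i : K)) (fun i => mem_Fx.1 (c i).2)
      (fun i h4 => hc i (Subtype.ext h4))
    have hact : Act hp ρ φ (H70.ChevDiag.dG D χ) (fun r => (χ r : K)) :=
      ⟨fun r _ => Units.ne_zero _, fun r hr => by
        rw [h1.isRootCharacter.1 r hr, Units.val_inv_eq_inv_val], h2, fun r _ t => H70.ChevDiag.dG_conj hp.inList h1 r t⟩
    obtain ⟨β, hβ, e⟩ := exists_Dw T p h (g := H70.ChevDiag.dG D χ) ⟨_, hact⟩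
    refine ⟨β, hβ, fun i a => Subtype.ext ?_⟩
    obtain ⟨h4, h5⟩ := act_Y T hact (isRoot_sr cs h i)
    rw [e]
    unfold xx
    rw [T.coe_x cs h p (isRoot_sr cs h i) (mem_Fx.1 a.2), h5]
    rw [h3 i]
    refine (T.coe_x cs h p (isRoot_sr cs h i) ?_).symm
    exact mem_Fx.1 (c i * a).2

/-! ### The involution -/

include T H in
/-- the Chevalley involution commutes with `σ` -/
theorem om_sigma {y : GL D.Idx K} (hy : y ∈ D.group K) :
    σ ((H405.UE.negSymm hp.inList).P K * y * ((H405.UE.negSymm hp.inList).P K)⁻¹) =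
      (H405.UE.negSymm hp.inList).P K * σ y * ((H405.UE.negSymm hp.inList).P K)⁻¹ := by
  have hc : RootVecTab.Checked D := hp.checked
  set P := (H405.UE.negSymm hp.inList).P K with hP
  have h1 : D.group K ≤ (σ.comp (MulAut.conj P).toMonoidHom).eqLocus ((MulAut.conj P).toMonoidHom.comp σ) := by
    rw [group_le_iff hp.inList]
    intro r hr t
    show σ (P * xG hp.inList r t * P⁻¹) = P * σ (xG hp.inList r t) * P⁻¹
    have h2 : ∀ r, r < D.nroots → ∀ t : K, P * xG hp.inList r t * P⁻¹ = xG hp.inList (D.neg r) (-t) :=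
      fun r hr t => H405.UE.negAut_xG hp.inList r t hr
    rw [h2 r hr, T.sig _ (RootVec.neg_lt hc hr), T.sig r hr, h2 _ (H.rlt r hr), H.rneg r hr, H.eps r hr, map_neg,
      mul_neg]
  exact h1 hy

theorem om_xG (hp : IsType D l M') {r : ℕ} (hr : r < D.nroots) (t : K) :
    (H405.UE.negSymm hp.inList).P K * xG hp.inList r t * ((H405.UE.negSymm hp.inList).P K)⁻¹ =
      xG hp.inList (D.neg r) (-t) := H405.UE.negAut_xG hp.inList r t hr

theorem om_om {y : GL D.Idx K} (hy : y ∈ D.group K) :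
    (H405.UE.negSymm hp.inList).P K * ((H405.UE.negSymm hp.inList).P K * y *
      ((H405.UE.negSymm hp.inList).P K)⁻¹) * ((H405.UE.negSymm hp.inList).P K)⁻¹ = y := by
  have hc : RootVecTab.Checked D := hp.checked
  set P := (H405.UE.negSymm hp.inList).P K with hP
  have h1 : D.group K ≤ ((MulAut.conj (P * P)).toMonoidHom).eqLocus (MonoidHom.id _) := by
    rw [group_le_iff hp.inList]
    intro r hr t
    show P * P * xG hp.inList r t * (P * P)⁻¹ = xG hp.inList r t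
    have h2 : P * P * xG hp.inList r t * (P * P)⁻¹ = P * (P * xG hp.inList r t * P⁻¹) * P⁻¹ := by group
    rw [h2, om_xG hp hr, om_xG hp (RootVec.neg_lt hc hr), RootVec.neg_neg hc hr, neg_neg]
  have h3 : P * P * y * (P * P)⁻¹ = y := h1 hy
  have h4 : P * P * y * (P * P)⁻¹ = P * (P * y * P⁻¹) * P⁻¹ := by group
  exact h4.symm.trans h3

include T H in
theorem om_R {z : Fin m → ℤ} {y : GL D.Idx K} (hy : y ∈ R D hp K J σ z) :
    (H405.UE.negSymm hp.inList).P K * y * ((H405.UE.negSymm hp.inList).P K)⁻¹ ∈ R D hp K J σ (-z) := by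
  have hc : RootVecTab.Checked D := hp.checked
  have hy1 : y ∈ rspan (xG (F := K) hp.inList) {k | k < D.nroots ∧ V D J k = z} := hy.1
  have hy2 : σ y = y := hy.2
  have hyD : y ∈ D.group K := rspan_le _ (fun r _ t => xG_mem_group hp.inList r t) hy1
  refine ⟨?_, ?_⟩
  · have h1 : rspan (xG (F := K) hp.inList) {k | k < D.nroots ∧ V D J k = z} ≤
        (rspan (xG (F := K) hp.inList) {k | k < D.nroots ∧ V D J k = -z}).comap
          (MulAut.conj ((H405.UE.negSymm hp.inList).P K)).toMonoidHom := by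
      refine rspan_le _ fun r hr t => ?_
      change (H405.UE.negSymm hp.inList).P K * xG hp.inList r t * ((H405.UE.negSymm hp.inList).P K)⁻¹ ∈
        rspan (xG (F := K) hp.inList) {k | k < D.nroots ∧ V D J k = -z}
      rw [om_xG hp hr.1]
      have h3 : D.neg r ∈ {k | k < D.nroots ∧ V D J k = -z} :=
        ⟨RootVec.neg_lt hc hr.1, by rw [V_neg hc hr.1, hr.2]⟩
      exact mem_rspan _ h3 _
    exact h1 hy1
  · change σ ((H405.UE.negSymm hp.inList).P K * y * ((H405.UE.negSymm hp.inList).P K)⁻¹) =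
      (H405.UE.negSymm hp.inList).P K * y * ((H405.UE.negSymm hp.inList).P K)⁻¹
    rw [om_sigma T H hyD, hy2]

include T H in
/-- **the involution of the twisted group** -/
theorem exists_om [Finite K] (p : ℕ) [Fact p.Prime] [CharP K p] (h : IsCartan M A) : ∃ ω : MulAut ↥G,
    (∀ y : ↥G, ((ω y : ↥G) : GL D.Idx K) = (H405.UE.negSymm hp.inList).P K * y *
      ((H405.UE.negSymm hp.inList).P K)⁻¹) ∧ ω * ω = 1 ∧
    (∀ z, ∀ y ∈ (R D hp K J σ z).subgroupOf G, ω y ∈ (R D hp K J σ (-z)).subgroupOf G) ∧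
    ∀ d ∈ Dw hp ρ φ G, ω * d * ω⁻¹ = d⁻¹ := by
  have hc : RootVecTab.Checked D := hp.checked
  have hGD : G ≤ D.group K := by
    refine T.FG.gen.trans (iSup_le fun i => sup_le ?_ ?_) <;>
    · intro u hu
      exact rspan_le _ (fun r _ t => xG_mem_group hp.inList r t) hu.1
  have hmem : ∀ y ∈ G, (H405.UE.negSymm hp.inList).P K * y * ((H405.UE.negSymm hp.inList).P K)⁻¹ ∈ G := by
    have h1 : G ≤ G.comap (MulAut.conj ((H405.UE.negSymm hp.inList).P K)).toMonoidHom := by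
      refine T.FG.gen.trans (iSup_le fun i => sup_le (fun u hu => ?_) (fun u hu => ?_))
      · exact R_le M.toCoxeterSystem h T.FD T.FG p (isRoot_sr _ h i).neg (om_R T H hu)
      · refine R_le M.toCoxeterSystem h T.FD T.FG p (isRoot_sr _ h i) ?_
        have := om_R T H hu
        rwa [neg_neg] at this
    exact h1
  let ω : MulAut ↥G :=
    { toFun := fun y => ⟨_, hmem y y.2⟩
      invFun := fun y => ⟨_, hmem y y.2⟩
      left_inv := fun y => Subtype.ext (om_om (hp := hp) (hGD y.2))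
      right_inv := fun y => Subtype.ext (om_om (hp := hp) (hGD y.2))
      map_mul' := fun y z => Subtype.ext (by
        show (H405.UE.negSymm hp.inList).P K * ((y : GL D.Idx K) * z) * ((H405.UE.negSymm hp.inList).P K)⁻¹ =
          ((H405.UE.negSymm hp.inList).P K * (y : GL D.Idx K) * ((H405.UE.negSymm hp.inList).P K)⁻¹) *
          ((H405.UE.negSymm hp.inList).P K * (z : GL D.Idx K) * ((H405.UE.negSymm hp.inList).P K)⁻¹)
        group) }
  have hω : ∀ y : ↥G, ((ω y : ↥G) : GL D.Idx K) = (H405.UE.negSymm hp.inList).P K * y *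
      ((H405.UE.negSymm hp.inList).P K)⁻¹ := fun y => rfl
  have hωω : ω * ω = 1 := by
    apply MulEquiv.ext
    intro y
    apply Subtype.ext
    rw [MulAut.mul_apply, hω, hω]
    exact om_om (hp := hp) (hGD y.2)
  refine ⟨ω, hω, hωω, fun z y hy => ?_, ?_⟩
  · rw [Subgroup.mem_subgroupOf] at hy ⊢
    exact om_R T H hy
  · rintro d ⟨g, ⟨χ, hχ⟩, e⟩
    apply MulEquiv.ext
    intro y
    apply Subtype.ext
    have hωi : ω⁻¹ = ω := inv_eq_of_mul_eq_one_left hωω
    have hdi : ((d⁻¹ y : ↥G) : GL D.Idx K) = g⁻¹ * y * g := by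
      have h1 := e (d⁻¹ y)
      rw [MulAut.apply_inv_self] at h1
      rw [h1]; group
    rw [hωi, MulAut.mul_apply, MulAut.mul_apply, hω, e, hω, hdi]
    set P := (H405.UE.negSymm hp.inList).P K with hP
    have h1 : D.group K ≤ ((MulAut.conj (P * g * P)).toMonoidHom).eqLocus (MulAut.conj (g⁻¹)).toMonoidHom := by
      rw [group_le_iff hp.inList]
      intro r hr t
      show P * g * P * xG hp.inList r t * (P * g * P)⁻¹ = g⁻¹ * xG hp.inList r t * g⁻¹⁻¹
      have h2 : P * g * P * xG hp.inList r t * (P * g * P)⁻¹ = P * (g * (P * xG hp.inList r t * P⁻¹) * g⁻¹) * P⁻¹ := by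
        group
      have h3 : g⁻¹ * xG hp.inList r t * g⁻¹⁻¹ = xG hp.inList r ((χ r)⁻¹ * t) := by
        have h4 := hχ.act r hr ((χ r)⁻¹ * t)
        rw [mul_inv_cancel_left₀ (hχ.ne r hr)] at h4
        rw [← h4]; group
      rw [h2, h3, hP, om_xG hp hr, hχ.act _ (RootVec.neg_lt hc hr), om_xG hp (RootVec.neg_lt hc hr),
        RootVec.neg_neg hc hr, hχ.neg r hr, mul_neg, neg_neg]
    have h5 : P * g * P * (y : GL D.Idx K) * (P * g * P)⁻¹ = g⁻¹ * y * g⁻¹⁻¹ := h1 (hGD y.2)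
    rw [inv_inv] at h5
    rw [← h5]
    group

end Cfsg.Agent.H928.Ad.Tw
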